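import Groth.Agent.FpqcDescent.IdealGlue
import Mathlib.AlgebraicGeometry.Sites.Fpqc

/-! # Predicates on morphisms represented by closed subschemes -/

universe u

open CategoryTheory AlgebraicGeometry Limits TopologicalSpace

namespace Groth.Agent.ClosedRep

variable {X T T' : Scheme.{u}}

lemma comap_eq_bot_iff (J : T.IdealSheafData) (h : T' ⟶ T) : J.comap h = ⊥ ↔ J ≤ h.ker := by
  rw [← le_bot_iff, ← Scheme.IdealSheafData.le_map_iff_comap_le, Scheme.IdealSheafData.map_bot]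

lemma bot_comap (h : T' ⟶ T) : (⊥ : T.IdealSheafData).comap h = ⊥ :=
  (comap_eq_bot_iff _ h).mpr bot_le

/-- being zero is local -/
lemma eq_bot_of_cover (J : X.IdealSheafData) (𝒰 : Scheme.OpenCover.{u} X)
    (h : ∀ i, J.comap (𝒰.f i) = ⊥) : J = ⊥ := by
  refine le_bot_iff.mp ?_
  rw [← Scheme.Hom.ker_eq_bot_of_isIso (𝟙 X), ← Scheme.Hom.iInf_ker_openCover_map_comp (𝟙 X) 𝒰]
  refine le_iInf fun i ↦ ?_
  rw [Category.comp_id]
  exact (comap_eq_bot_iff _ _).mp (h i)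

/-- being zero is local -/
lemma eq_bot_of_jointly_surjective (J : X.IdealSheafData) {ι : Type u} {W : ι → Scheme.{u}}
    (f : ∀ i, W i ⟶ X) [∀ i, IsOpenImmersion (f i)] (hf : ∀ x, ∃ i y, f i y = x)
    (h : ∀ i, J.comap (f i) = ⊥) : J = ⊥ := by
  choose i y hy using hf
  exact eq_bot_of_cover J
    { I₀ := ι, X := W, f := f,
      mem₀ := by
        rw [Scheme.presieve₀_mem_precoverage_iff]
        exact ⟨fun x ↦ ⟨i x, y x, hy x⟩, inferInstance⟩ } h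

/-- the ideal sheaf `J` represents the predicate `P` on morphisms to `T` -/
def Reps (P : ∀ ⦃T' : Scheme.{u}⦄, (T' ⟶ T) → Prop) (J : T.IdealSheafData) : Prop :=
  ∀ ⦃T' : Scheme.{u}⦄ (h : T' ⟶ T), P h ↔ J.comap h = ⊥

/-- a predicate is local on the source -/
def IsLocal (P : ∀ ⦃T' : Scheme.{u}⦄, (T' ⟶ T) → Prop) : Prop :=
  ∀ ⦃T' : Scheme.{u}⦄ (h : T' ⟶ T) (𝒰 : Scheme.OpenCover.{u} T'), P h ↔ ∀ i, P (𝒰.f i ≫ h)

variable {P : ∀ ⦃T' : Scheme.{u}⦄, (T' ⟶ T) → Prop}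

lemma Reps.isLocal {J : T.IdealSheafData} (hJ : Reps P J) : IsLocal P := by
  intro T' h 𝒰
  simp only [hJ _, Scheme.IdealSheafData.comap_comp]
  refine ⟨fun h' i ↦ by rw [h', bot_comap], eq_bot_of_cover _ 𝒰⟩

lemma Reps.eq {J J' : T.IdealSheafData} (hJ : Reps P J) (hJ' : Reps P J') : J = J' := by
  refine le_antisymm ?_ ?_
  · rw [← J'.ker_subschemeι, ← comap_eq_bot_iff, ← hJ, hJ', comap_eq_bot_iff,
      J'.ker_subschemeι]
  · rw [← J.ker_subschemeι, ← comap_eq_bot_iff, ← hJ', hJ, comap_eq_bot_iff,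
      J.ker_subschemeι]

lemma Reps.comap {J : T.IdealSheafData} (hJ : Reps P J) (g : T' ⟶ T) :
    Reps (fun _ h ↦ P (h ≫ g)) (J.comap g) := fun _ h ↦ by
  rw [← Scheme.IdealSheafData.comap_comp]
  exact hJ (h ≫ g)

lemma Reps.factors_iff {J : T.IdealSheafData} (hJ : Reps P J) {T' : Scheme.{u}} (h : T' ⟶ T) :
    (∃ z : T' ⟶ J.subscheme, z ≫ J.subschemeι = h) ↔ P h := by
  rw [hJ h, comap_eq_bot_iff]
  refine ⟨?_, fun le ↦ ⟨IsClosedImmersion.lift J.subschemeι h (J.ker_subschemeι.trans_le le),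
    IsClosedImmersion.lift_fac _ _ _⟩⟩
  rintro ⟨z, rfl⟩
  exact le_trans J.ker_subschemeι.ge (z.le_ker_comp J.subschemeι)

/-- representability by a closed subscheme is local on the base -/
theorem exists_reps_of_openCover (hP : IsLocal P) (𝒰 : Scheme.OpenCover.{u} T)
    (h : ∀ i, ∃ J : (𝒰.X i).IdealSheafData, Reps (fun _ h ↦ P (h ≫ 𝒰.f i)) J) :
    ∃ J : T.IdealSheafData, Reps P J := by
  choose I hI using h
  have hmem : Presieve.ofArrows 𝒰.X 𝒰.f ∈ Scheme.fpqcPrecoverage T :=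
    Scheme.zariskiPrecoverage_le_fpqcPrecoverage _ 𝒰.mem₀
  obtain ⟨⟨J, hJ, -⟩⟩ : Nonempty (∃! J : T.IdealSheafData, ∀ i, J.comap (𝒰.f i) = I i) := by
    refine ⟨FpqcDescent.existsUnique_descent hmem I fun i j ↦ ?_⟩
    have e := (pullback.condition (f := 𝒰.f i) (g := 𝒰.f j))
    refine Reps.eq (P := fun _ h ↦ P (h ≫ pullback.fst (𝒰.f i) (𝒰.f j) ≫ 𝒰.f i)) ?_ ?_
    · intro T' h
      simpa only [Category.assoc] using (hI i).comap (pullback.fst (𝒰.f i) (𝒰.f j)) h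
    · intro T' h
      simpa only [e, Category.assoc] using (hI j).comap (pullback.snd (𝒰.f i) (𝒰.f j)) h
  refine ⟨J, fun T' h ↦ ?_⟩
  let 𝒱 : Scheme.OpenCover.{u} T' := 𝒰.pullback₁ h
  rw [hP h 𝒱]
  have key : ∀ i : 𝒰.I₀, P (pullback.fst h (𝒰.f i) ≫ h) ↔
      (J.comap h).comap (pullback.fst h (𝒰.f i)) = ⊥ := by
    intro i
    rw [← Scheme.IdealSheafData.comap_comp, pullback.condition, Scheme.IdealSheafData.comap_comp,
      hJ i]
    exact hI i _
  exact ⟨fun h' ↦ eq_bot_of_cover _ 𝒱 fun i ↦ (key i).mp (h' i),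
    fun h' i ↦ (key i).mpr (by rw [h', bot_comap])⟩

/-- the affine criterion -/
theorem exists_reps_of_isAffine [IsAffine T] (hP : IsLocal P) (𝔞 : Ideal Γ(T, ⊤))
    (h : ∀ ⦃T' : Scheme.{u}⦄ [IsAffine T'] (h : T' ⟶ T), P h ↔ 𝔞.map h.appTop.hom = ⊥) :
    ∃ J : T.IdealSheafData, Reps P J := by
  let J : T.IdealSheafData := Scheme.IdealSheafData.equivOfIsAffine.symm 𝔞
  have hJ : J.ideal ⟨⊤, isAffineOpen_top T⟩ = 𝔞 :=
    Scheme.IdealSheafData.equivOfIsAffine.apply_symm_apply 𝔞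
  refine ⟨J, fun T' g ↦ ?_⟩
  rw [hP g T'.affineCover]
  have key : ∀ i, P (T'.affineCover.f i ≫ g) ↔ (J.comap g).comap (T'.affineCover.f i) = ⊥ := by
    intro i
    rw [h, ← Scheme.IdealSheafData.comap_comp]
    constructor
    · intro h'
      refine Scheme.IdealSheafData.ext_of_isAffine ?_
      rw [FpqcDescent.ideal_comap_of_isAffine, hJ, h', Scheme.IdealSheafData.ideal_bot]
      rfl
    · intro h'
      rw [← hJ, ← FpqcDescent.ideal_comap_of_isAffine, h', Scheme.IdealSheafData.ideal_bot]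
      rfl
  exact ⟨fun h' ↦ eq_bot_of_cover _ _ fun i ↦ (key i).mp (h' i),
    fun h' i ↦ (key i).mpr (by rw [h', bot_comap])⟩

end Groth.Agent.ClosedRep
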