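import Groth.Agent.ClosedRep.Free
import Mathlib.AlgebraicGeometry.Group.Abelian

/-! # Closed subschemes of agreement -/

universe u

open CategoryTheory AlgebraicGeometry Limits MonoidalCategory CartesianMonoidalCategory MonObj

namespace Groth.Agent.ClosedRep

variable {S : Scheme.{u}}

lemma forall_lift_iff {X T Y T' : Over S} (f g : X ⊗ T ⟶ Y) (x : T' ⟶ T) :
    (X ◁ x) ≫ f = (X ◁ x) ≫ g ↔
      ∀ (T'' : Over S) (t : T'' ⟶ T') (a : T'' ⟶ X), lift a (t ≫ x) ≫ f = lift a (t ≫ x) ≫ g := by
  refine ⟨fun h T'' t a ↦ ?_, fun h ↦ ?_⟩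
  · rw [← lift_whiskerLeft a t x, Category.assoc, Category.assoc, h]
  · have := h (X ⊗ T') (snd X T') (fst X T')
    rwa [show lift (fst X T') (snd X T' ≫ x) = X ◁ x from by ext <;> simp] at this

/-- the locus where two families of maps agree is a closed subscheme -/
theorem exists_closed_eqLocus {X T Y : Over S} (f g : X ⊗ T ⟶ Y) (hX : IsLocFree X.hom)
    [hY : IsClosedImmersion (equalizer.ι f g).left] :
    ∃ (Z : Over S) (i : Z ⟶ T), IsClosedImmersion i.left ∧
      ∀ (T' : Over S) (x : T' ⟶ T), (∃ z, z ≫ i = x) ↔ (X ◁ x) ≫ f = (X ◁ x) ≫ g := by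
  let I : (pullback X.hom T.hom).IdealSheafData := (equalizer.ι f g).left.ker
  obtain ⟨J, hJ⟩ := exists_reps_zeroOn X.hom T.hom I hX
  refine ⟨Over.mk (J.subschemeι ≫ T.hom), Over.homMk J.subschemeι rfl,
    inferInstanceAs (IsClosedImmersion J.subschemeι), fun T' x ↦ ?_⟩
  have h1 : (∃ z, z ≫ Over.homMk (U := Over.mk (J.subschemeι ≫ T.hom)) J.subschemeι rfl = x) ↔
      ∃ z : T'.left ⟶ J.subscheme, z ≫ J.subschemeι = x.left := by
    constructor
    · rintro ⟨z, rfl⟩
      exact ⟨z.left, rfl⟩
    · rintro ⟨z, hz⟩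
      refine ⟨Over.homMk z ?_, Over.OverMorphism.ext ((Over.comp_left _ _ _ _ _).trans hz)⟩
      change z ≫ J.subschemeι ≫ T.hom = T'.hom
      rw [reassoc_of% hz, Over.w]
  rw [h1, hJ.factors_iff, zeroOn_iff X.hom T.hom I x.left T'.hom (Over.w x), comap_eq_bot_iff]
  have h2 : (X ◁ x).left = pm X.hom x.left (Over.w x) := by
    apply pullback.hom_ext
    · rw [Over.whiskerLeft_left_fst, pullback.lift_fst]
    · rw [Over.whiskerLeft_left_snd, pullback.lift_snd]
  rw [← h2]
  constructor
  · intro le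
    obtain ⟨m, hm⟩ : ∃ m, m ≫ (equalizer.ι f g).left = (X ◁ x).left :=
      ⟨IsClosedImmersion.lift (equalizer.ι f g).left (X ◁ x).left le,
        IsClosedImmersion.lift_fac _ _ _⟩
    apply Over.OverMorphism.ext
    rw [Over.comp_left, Over.comp_left, ← hm, Category.assoc, Category.assoc, ← Over.comp_left,
      ← Over.comp_left, equalizer.condition]
  · intro h
    rw [← equalizer.lift_ι (X ◁ x) h, Over.comp_left]
    exact Scheme.Hom.le_ker_comp _ _

lemma isLocFree_of_field (K : Type u) [Field K] {X : Scheme.{u}}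
    (p : X ⟶ Spec (CommRingCat.of K)) : IsLocFree p := by
  intro s
  refine ⟨⟨⊤, isAffineOpen_top _⟩, X.affineOpens, id, fun _ _ _ ↦ trivial, trivial,
    fun x _ ↦ ?_, fun W ↦ ?_⟩
  · obtain ⟨U, hU, hx, -⟩ := exists_isAffineOpen_mem_and_subset (U := ⊤) (x := x) trivial
    exact ⟨⟨U, hU⟩, hx⟩
  · let : Field Γ(Spec (CommRingCat.of K), ⊤) :=
      ((Scheme.ΓSpecIso (CommRingCat.of K)).commRingCatIsoToRingEquiv.toMulEquiv.isField
        (Field.toIsField K)).toField
    letI : Module Γ(Spec (CommRingCat.of K), ⊤) Γ(X, W.1) :=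
      ((p.appLE ⊤ W.1 (fun _ _ ↦ trivial)).hom.toAlgebra).toModule
    exact (Module.Free.of_divisionRing Γ(Spec (CommRingCat.of K), ⊤) Γ(X, W.1) :)

/-- if the unit is a closed immersion, agreement loci of maps into a group scheme are closed -/
theorem isClosedImmersion_equalizer_of_grp {A G : Over S} [GrpObj G] [IsClosedImmersion η[G].left]
    (f g : A ⟶ G) : IsClosedImmersion (equalizer.ι f g).left := by
  have h : IsPullback (equalizer.ι f g) (toUnit (equalizer f g)) (f * g⁻¹) η[G] := by
    refine ⟨⟨?_⟩, ⟨PullbackCone.IsLimit.mk _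
      (fun s ↦ equalizer.lift s.fst ?_) (fun s ↦ equalizer.lift_ι _ _)
      (fun s ↦ toUnit_unique _ _) (fun s m hm _ ↦ equalizer.hom_ext (hm.trans ?_))⟩⟩
    · rw [comp_mul, GrpObj.comp_inv, equalizer.condition, mul_inv_cancel, Hom.one_def]
    · have h := s.condition
      rw [comp_mul, GrpObj.comp_inv, toUnit_unique s.snd (toUnit _), ← Hom.one_def, mul_inv_eq_one] at h
      exact h
    · rw [equalizer.lift_ι]
  exact MorphismProperty.of_isPullback (h.map (Over.forget _)).flip ‹_›

/-- a group scheme with closed unit is separated -/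
theorem isSeparated_of_one {G : Over S} [GrpObj G] [IsClosedImmersion η[G].left] :
    IsSeparated G.hom := by
  constructor
  have := isClosedImmersion_equalizer_of_grp (fst G G) (snd G G)
  let e : G ⟶ equalizer (fst G G) (snd G G) :=
    equalizer.lift (lift (𝟙 G) (𝟙 G)) (by rw [lift_fst, lift_snd])
  have : IsIso e := by
    refine ⟨equalizer.ι (fst G G) (snd G G) ≫ fst G G, by simp [e], equalizer.hom_ext ?_⟩
    simp only [e, Category.assoc, equalizer.lift_ι, Category.id_comp]
    ext
    · simp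
    · simp only [Category.assoc, lift_snd, Category.comp_id]
      exact congr(($(equalizer.condition (fst G G) (snd G G))).left)
  have : IsIso e.left := inferInstanceAs (IsIso ((Over.forget S).map e))
  have : IsClosedImmersion (e ≫ equalizer.ι (fst G G) (snd G G)).left := by
    rw [Over.comp_left]; infer_instance
  rw [equalizer.lift_ι] at this
  exact this

/-- a group scheme over a field is separated -/
theorem isSeparated_of_field (K : Type u) [Field K] (G : Over (Spec (CommRingCat.of K)))
    [GrpObj G] : IsSeparated G.hom :=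
  isSeparated_of_one

end Groth.Agent.ClosedRep
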