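import Groth.Agent.ClosedRep.EssFreeQC
import Groth.Agent.S1219
import Groth.Agent.S1223
import Groth.Agent.S4871
import Groth.Agent.S2258
import Groth.Agent.S0558
import Groth.Agent.Rigid.Smooth
import Groth.Agent.Rigid.GeomFibre
import Groth.Agent.GrpField.Fibres
import Groth.Agent.FittLib.StrictTransform2
import Groth.Agent.SmLocalST.SmoothField

/-! # Weil restriction of closed subschemes along morphisms with geometrically integral fibres -/

universe u

open CategoryTheory AlgebraicGeometry Limits TopologicalSpace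

namespace Groth.Agent.ClosedRep.GeomIntegral

set_option backward.isDefEq.respectTransparency false

variable {S X Y : Scheme.{u}}

/-- Smooth with geometrically connected fibres gives geometrically integral fibres. -/
theorem geometricallyIntegral_of_smooth (f : X ⟶ S) [Smooth f] [GeometricallyConnected f] :
    GeometricallyIntegral f := by
  have hirr : GeometricallyIrreducible f := by
    refine ⟨fun L _ y Z p q h => ?_⟩
    have : Smooth q := MorphismProperty.of_isPullback h ‹Smooth f›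
    have : ConnectedSpace Z := GeometricallyConnected.geometrically_connectedSpace (f := f) y p q h
    have : IsLocallyNoetherian Z := LocallyOfFiniteType.isLocallyNoetherian q
    refine GrpField.irreducibleSpace_of_nhds fun z => ?_
    have := SmLocalST.isRegularLocalRing_stalk_of_smooth_field q z
    have : IsDomain (Z.presheaf.stalk z) := Groth.Agent.S0558.result _
    obtain ⟨U, hzU, hU⟩ := Groth.Agent.S2258.result Z z (by
      rw [nilradical_eq_zero]; exact Ideal.isPrime_bot)
    exact ⟨U, U.2, hU, hzU⟩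
  have := Rigid.geometricallyReduced_of_smooth f
  exact GeometricallyIntegral.of_geometricallyReduced_of_geometricallyIrreducible f

theorem isSchematicallyDense_of_isIntegral [IsIntegral X] (U : X.Opens) (hU : (U : Set X).Nonempty) :
    CInt.IsSchematicallyDense U := by
  intro V
  obtain hV | hV := (V : Set X).eq_empty_or_nonempty
  · have : V = ⊥ := Opens.ext hV
    subst this
    intro a b _
    exact Subsingleton.elim a b
  · have : Nonempty (V ⊓ U).toScheme := by
      obtain ⟨x, hx, hx'⟩ := nonempty_preirreducible_inter V.2 U.2 hV hU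
      exact ⟨⟨x, hx, hx'⟩⟩
    exact map_injective_of_isIntegral X (homOfLE inf_le_left)

/-- An ideal sheaf vanishing on an open meeting every fibre vanishes. -/
theorem eq_bot_of_fibres (f : X ⟶ S) [Flat f] [LocallyOfFinitePresentation f] [GeometricallyIntegral f]
    (U : X.Opens) (hU : ∀ s : S, ∃ x ∈ U, f x = s) (J : X.IdealSheafData) (hJ : J.comap U.ι = ⊥) :
    J = ⊥ := by
  have hd : ∀ s : S, CInt.IsSchematicallyDense ((f.fiberι s) ⁻¹ᵁ U) := fun s =>
    isSchematicallyDense_of_isIntegral _ (by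
      obtain ⟨x, hx, rfl⟩ := hU s
      obtain ⟨y, hy⟩ : x ∈ Set.range (f.fiberι (f x)) := by rw [f.range_fiberι]; rfl
      exact ⟨y, by change f.fiberι (f x) y ∈ U; rw [hy]; exact hx⟩)
  have h := (Groth.Agent.S4871.result f U).mpr hd S (𝟙 S)
  set a := pullback.fst f (𝟙 S)
  have h2 : J.comap a = ⊥ := by
    refine _root_.FittLib.eq_bot_of_dense h ?_
    rw [← Scheme.IdealSheafData.comap_comp, ← IsOpenImmersion.lift_fac U.ι ((a ⁻¹ᵁ U).ι ≫ a) (by
      rintro _ ⟨x, rfl⟩
      rw [Scheme.Opens.range_ι]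
      exact x.2), Scheme.IdealSheafData.comap_comp, hJ, bot_comap]
  have := congrArg (Scheme.IdealSheafData.comap · (inv a)) h2
  simpa only [← Scheme.IdealSheafData.comap_comp, IsIso.inv_hom_id, Scheme.IdealSheafData.comap_id,
    bot_comap] using this

/-- Purity gives projectivity. -/
theorem projective_of_geomIntegral {W V : Scheme.{u}} [IsAffine W] [IsAffine V] (g : W ⟶ V) [Flat g]
    [LocallyOfFinitePresentation g] [GeometricallyIntegral g] :
    letI := g.appTop.hom.toAlgebra
    Module.Projective Γ(V, ⊤) Γ(W, ⊤) := by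
  let := g.appTop.hom.toAlgebra
  have : Algebra.FinitePresentation Γ(V, ⊤) Γ(W, ⊤) :=
    HasRingHomProperty.appTop (P := @LocallyOfFinitePresentation) g inferInstance
  have : Module.Flat Γ(V, ⊤) Γ(W, ⊤) := HasRingHomProperty.appTop (P := @Flat) g inferInstance
  have : MorphismProperty.RespectsIso @GeometricallyIntegral.{u} := by
    rw [GeometricallyIntegral.eq_geometrically]; infer_instance
  have h : FlatCA.GeomIntegralFibres Γ(V, ⊤) Γ(W, ⊤) :=
    (MorphismProperty.arrow_mk_iso_iff @GeometricallyIntegral (arrowIsoSpecΓOfIsAffine g)).mp inferInstance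
  have hu := Groth.Agent.S1223.result h
  refine (Groth.Agent.S1219.result (A := Γ(V, ⊤)) (B := Γ(W, ⊤)) Γ(W, ⊤)).mpr ?_
  intro p _ A' B' N' _ _ _ _ _ _ _ _ _ _ _ _ _ _ φ t' t _ _ P _ _
  exact hu p A' B' N' φ t' t P

/-- the chart -/
theorem exists_chart (f : X ⟶ S) [Flat f] [LocallyOfFinitePresentation f] [Surjective f] (s : S) :
    ∃ (V : S.Opens) (W : X.Opens) (e : W ≤ f ⁻¹ᵁ V), s ∈ V ∧ IsAffineOpen V ∧ IsAffineOpen W ∧
      ∀ v ∈ V, ∃ x ∈ W, f x = v := by
  obtain ⟨x, hx⟩ := f.surjective s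
  obtain ⟨S₀, hS₀, hsS₀, -⟩ := exists_isAffineOpen_mem_and_subset (X := S) (x := s) (U := ⊤) trivial
  obtain ⟨W₀, hW₀, hxW₀, hle⟩ := exists_isAffineOpen_mem_and_subset (X := X) (x := x)
    (U := f ⁻¹ᵁ S₀) (show f x ∈ S₀ from hx ▸ hsS₀)
  have hO : IsOpen (f '' (W₀ : Set X)) := f.isOpenMap _ W₀.2
  obtain ⟨r, hrle, hsr⟩ := hS₀.exists_basicOpen_le (V := ⟨f '' (W₀ : Set X), hO⟩)
    ⟨s, x, hxW₀, hx⟩ hsS₀
  refine ⟨S.basicOpen r, W₀ ⊓ f ⁻¹ᵁ S.basicOpen r, inf_le_right, hsr, hS₀.basicOpen r, ?_, ?_⟩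
  · rw [← Scheme.basicOpen_appLE f W₀ S₀ hle r]
    exact hW₀.basicOpen _
  · intro v hv
    obtain ⟨w, hw, rfl⟩ := hrle hv
    exact ⟨w, ⟨hw, hv⟩, rfl⟩

/-- restricting to a chart -/
theorem zeroOn_chart (f : X ⟶ S) [Flat f] [LocallyOfFinitePresentation f] [GeometricallyIntegral f]
    {V : S.Opens} {W : X.Opens} (e : W ≤ f ⁻¹ᵁ V) (hsurj : ∀ v ∈ V, ∃ x ∈ W, f x = v)
    (K : X.IdealSheafData) {T' : Scheme.{u}} (h : T' ⟶ V.toScheme) :
    K.comap (pullback.fst f (h ≫ V.ι)) = ⊥ ↔
      K.comap (pullback.fst (f.resLE V W e) h ≫ W.ι) = ⊥ := by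
  set b := pullback.fst f (h ≫ V.ι)
  let m : pullback (f.resLE V W e) h ⟶ pullback f (h ≫ V.ι) :=
    pullback.map _ _ _ _ W.ι (𝟙 T') V.ι (f.resLE_comp_ι e) (Category.id_comp _).symm
  have hm : m ≫ b = pullback.fst (f.resLE V W e) h ≫ W.ι := pullback.lift_fst _ _ _
  rw [← hm, Scheme.IdealSheafData.comap_comp]
  refine ⟨fun h' => by rw [h', bot_comap], fun h' => ?_⟩
  refine eq_bot_of_fibres (pullback.snd f (h ≫ V.ι)) (b ⁻¹ᵁ W) (fun t => ?_) _ ?_
  · obtain ⟨x, hx, hxv⟩ := hsurj (V.ι (h t)) (h t).2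
    obtain ⟨y, hy1, hy2⟩ := Scheme.Pullback.exists_preimage_pullback (f := f) (g := h ≫ V.ι) x t
      (by rw [Scheme.Hom.comp_apply]; exact hxv)
    exact ⟨y, show b y ∈ W from hy1 ▸ hx, hy2⟩
  · have hr : Set.range (b ⁻¹ᵁ W).ι ⊆ Set.range m := by
      rw [Scheme.Opens.range_ι]
      intro y hy
      obtain ⟨w, hw⟩ : b y ∈ Set.range W.ι := by rw [Scheme.Opens.range_ι]; exact hy
      have hy' : pullback.snd f (h ≫ V.ι) y ∈ Set.univ := trivial
      rw [Scheme.Pullback.range_map]
      exact ⟨⟨w, hw⟩, ⟨_, rfl⟩⟩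
    have : IsOpenImmersion m := by dsimp [m]; infer_instance
    rw [← IsOpenImmersion.lift_fac m _ hr, Scheme.IdealSheafData.comap_comp, h', bot_comap]

set_option maxHeartbeats 800000 in
/-- Weil restriction along morphisms with geometrically integral fibres. -/
theorem exists_weilRestriction_closed (f : X ⟶ S) [Flat f] [LocallyOfFinitePresentation f]
    [GeometricallyIntegral f] (j : Y ⟶ X) [IsClosedImmersion j] :
    ∃ (T : Scheme.{u}) (t : T ⟶ S), IsClosedImmersion t ∧
      (∀ (S' : Scheme.{u}) (g : S' ⟶ S),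
        (∃ g' : S' ⟶ T, g' ≫ t = g) ↔ j.ker.comap (pullback.fst f g) = ⊥) ∧
      (LocallyOfFinitePresentation j → LocallyOfFinitePresentation t) := by
  choose V W e hsV hV hW hsurj using exists_chart f
  have hcov : IsOpenCover V :=
    IsOpenCover.mk (top_le_iff.mp fun s _ => Opens.mem_iSup.mpr ⟨s, hsV s⟩)
  let I := j.ker.comap (pullback.fst f (𝟙 S))
  let P : ∀ ⦃T' : Scheme.{u}⦄, (T' ⟶ S) → Prop := fun T' h => Proj.ZeroOn f (𝟙 S) I h
  have hP : ∀ ⦃T' : Scheme.{u}⦄ (h : T' ⟶ S), P h ↔ j.ker.comap (pullback.fst f h) = ⊥ := by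
    intro T' h
    change Proj.ZeroOn f (𝟙 S) I h ↔ _
    rw [Proj.zeroOn_iff f (𝟙 S) I h h (Category.comp_id h), ← Scheme.IdealSheafData.comap_comp,
      Proj.pm, pullback.lift_fst]
  have hloc : ∀ s, ∃ Js : (V s).toScheme.IdealSheafData,
      Reps (fun _ h => P (h ≫ (V s).ι)) Js ∧
        (LocallyOfFinitePresentation j → LocallyOfFinitePresentation Js.subschemeι) := by
    intro s
    have : IsAffine (V s).toScheme := hV s
    have : IsAffine (W s).toScheme := hW s
    let g := f.resLE (V s) (W s) (e s)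
    have hg : g ≫ (V s).ι = (W s).ι ≫ f := f.resLE_comp_ι (e s)
    have : Flat g := by dsimp [g]; infer_instance
    have : LocallyOfFinitePresentation g := by dsimp [g]; infer_instance
    have : Surjective g := ⟨fun v => by
      obtain ⟨x, hx, hxv⟩ := hsurj s ((V s).ι v) v.2
      refine ⟨⟨x, hx⟩, (V s).ι.isOpenEmbedding.injective ?_⟩
      exact (congrArg (fun m : (W s).toScheme ⟶ S => m ⟨x, hx⟩) hg).trans hxv⟩
    have : GeometricallyIntegral g := by
      refine ⟨fun K _ y Z p q h => ?_⟩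
      let b := y ≫ (V s).ι
      have : IsIntegral (pullback f b) :=
        GeometricallyIntegral.geometrically_isIntegral (f := f) b _ _ (IsPullback.of_hasPullback f b)
      let m : pullback g y ⟶ pullback f b :=
        pullback.map g y f b (W s).ι (𝟙 _) (V s).ι hg (Category.id_comp _).symm
      have : IsOpenImmersion m := by dsimp [m]; infer_instance
      have : Nonempty ↥(pullback g y) := by
        obtain ⟨v⟩ : Nonempty (Spec (CommRingCat.of K)) := inferInstanceAs (Nonempty (PrimeSpectrum K))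
        obtain ⟨w, hw⟩ := (pullback.snd g y).surjective v
        exact ⟨w⟩
      have := isIntegral_of_isOpenImmersion m
      exact IsIntegral.of_isIso h.isoPullback.inv
    have hproj : Proj.IsLocProj g := fun v => ⟨⟨⊤, isAffineOpen_top _⟩, PUnit,
      fun _ => ⟨⊤, isAffineOpen_top _⟩, fun _ => le_rfl, trivial, fun _ _ => ⟨⟨⟩, trivial⟩, fun _ => by
        have h := projective_of_geomIntegral g
        rwa [show g.appLE ⊤ ⊤ le_rfl = g.appTop from g.appLE_eq_app]⟩
    let Is := j.ker.comap (pullback.fst g (𝟙 _) ≫ (W s).ι)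
    obtain ⟨Js, hJs⟩ := Proj.exists_reps_zeroOn g (𝟙 _) Is hproj
    refine ⟨Js, fun T' h => ?_, fun hj => ?_⟩
    · rw [← hJs h]
      beta_reduce
      rw [Proj.zeroOn_iff g (𝟙 _) Is h h (Category.comp_id h), hP,
        zeroOn_chart f (e s) (hsurj s), ← Scheme.IdealSheafData.comap_comp, Proj.pm,
        pullback.lift_fst_assoc]
    · have : LocallyOfFinitePresentation Is.subschemeι := by
        have := lfp_ker_subschemeι (pullback.fst (pullback.fst g (𝟙 _) ≫ (W s).ι) j)
        rwa [Scheme.IdealSheafData.ker_fst_of_isClosedImmersion] at this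
      exact lfp_of_reps_proj g (𝟙 _) Is Js hJs
  choose Js hJs hfp using hloc
  obtain ⟨J, hJ⟩ := exists_reps_of_openCover (P := P) (Proj.isLocal_zeroOn f (𝟙 S) I)
    (S.openCoverOfIsOpenCover V hcov) fun s => ⟨Js s, hJs s⟩
  refine ⟨J.subscheme, J.subschemeι, inferInstance, fun S' g => ?_, fun hj => ?_⟩
  · rw [hJ.factors_iff, hP]
  · refine IsZariskiLocalAtTarget.of_openCover (P := @LocallyOfFinitePresentation.{u})
      (S.openCoverOfIsOpenCover V hcov) fun s => ?_
    change LocallyOfFinitePresentation (pullback.snd J.subschemeι (V s).ι)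
    have hJV : J.comap (V s).ι = Js s := Reps.eq (hJ.comap (V s).ι) (hJs s)
    have h1 := hfp s hj
    rw [← hJV, ← Scheme.IdealSheafData.comapIso_hom_fst,
      MorphismProperty.cancel_left_of_respectsIso @LocallyOfFinitePresentation] at h1
    rw [← pullbackSymmetry_hom_comp_fst,
      MorphismProperty.cancel_left_of_respectsIso @LocallyOfFinitePresentation]
    exact h1

end Groth.Agent.ClosedRep.GeomIntegral
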