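import Groth.Agent.ClosedRep.EssFreeOver
import Mathlib.AlgebraicGeometry.Pullbacks
import Mathlib.Algebra.Module.Projective

/-! # Affine schemes with projective coordinate rings after a faithfully flat extension -/

universe u

open CategoryTheory AlgebraicGeometry Limits TensorProduct

namespace Groth.Agent.ClosedRep

theorem projective_appTop {k' B : Type u} [CommRing k'] [CommRing B] [Algebra k' B]
    [Module.Projective k' B] {W : Scheme.{u}} (q : W ⟶ Spec (CommRingCat.of k'))
    (e : W ≅ Spec (CommRingCat.of B)) (h : e.hom ≫ Spec.map (CommRingCat.ofHom (algebraMap k' B)) = q) :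
    letI := q.appTop.hom.toAlgebra
    Module.Projective Γ(Spec (CommRingCat.of k'), ⊤) Γ(W, ⊤) := by
  subst h
  let := (e.hom ≫ Spec.map (CommRingCat.ofHom (algebraMap k' B))).appTop.hom.toAlgebra
  let σe : k' ≃+* Γ(Spec (CommRingCat.of k'), ⊤) := (Scheme.ΓSpecIso (CommRingCat.of k')).symm.commRingCatIsoToRingEquiv
  let φ : CommRingCat.of B ⟶ Γ(W, ⊤) := (Scheme.ΓSpecIso (CommRingCat.of B)).inv ≫ e.hom.appTop
  have : IsIso φ := by
    have : IsIso e.hom.appTop := ((Scheme.Γ.mapIso e.op).isIso_hom)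
    exact IsIso.comp_isIso
  let φe := (asIso φ).commRingCatIsoToRingEquiv
  have hσ : CommRingCat.ofHom (algebraMap k' B) ≫ φ = (Scheme.ΓSpecIso (CommRingCat.of k')).inv ≫
      (e.hom ≫ Spec.map (CommRingCat.ofHom (algebraMap k' B))).appTop := by
    change _ ≫ (Scheme.ΓSpecIso _).inv ≫ _ = _
    rw [← Category.assoc, Scheme.ΓSpecIso_inv_naturality, Category.assoc, ← Scheme.Hom.comp_appTop]
  have i₁ : RingHomInvPair (σe : k' →+* Γ(Spec (CommRingCat.of k'), ⊤)) (σe.symm : Γ(Spec (CommRingCat.of k'), ⊤) →+* k') :=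
    RingHomInvPair.of_ringEquiv σe
  have i₂ : RingHomInvPair (σe.symm : Γ(Spec (CommRingCat.of k'), ⊤) →+* k') (σe : k' →+* Γ(Spec (CommRingCat.of k'), ⊤)) :=
    RingHomInvPair.of_ringEquiv σe.symm
  let F : B ≃ₛₗ[(σe : k' →+* Γ(Spec (CommRingCat.of k'), ⊤))] Γ(W, ⊤) :=
    { φe.toAddEquiv with
      map_smul' := fun c z => by
        change φ.hom (c • z) = (e.hom ≫ Spec.map (CommRingCat.ofHom (algebraMap k' B))).appTop.hom
          ((Scheme.ΓSpecIso (CommRingCat.of k')).inv.hom c) * φ.hom z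
        rw [Algebra.smul_def, map_mul]
        congr 1
        exact congr(($hσ).hom c) }
  exact Module.Projective.of_equiv F

variable {k : Type u} [CommRing k]

theorem isEssentiallyFree_of_projective {H : Scheme.{u}} (p : H ⟶ Spec (CommRingCat.of k))
    (A : Type u) [CommRing A] [Algebra k A] (eA : H ≅ Spec (CommRingCat.of A))
    (heA : eA.hom ≫ Spec.map (CommRingCat.ofHom (algebraMap k A)) = p)
    (k' : Type u) [CommRing k'] [Algebra k k'] [Module.FaithfullyFlat k k']
    [Module.Projective k' (k' ⊗[k] A)] : SGA3x.IsEssentiallyFree p := by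
  intro s
  let g₀ := Spec.map (CommRingCat.ofHom (algebraMap k k'))
  have hfl : Flat g₀ := Flat.SpecMap_iff.2 (RingHom.flat_algebraMap_iff.2 inferInstance)
  have hsu : Surjective g₀ := ⟨PrimeSpectrum.comap_surjective_of_faithfullyFlat⟩
  refine ⟨⊤, trivial, isAffineOpen_top _, Spec (CommRingCat.of k'), inferInstance,
    g₀ ≫ (Scheme.topIso (Spec (CommRingCat.of k))).inv, inferInstance, inferInstance, ?_⟩
  let g₁ := (g₀ ≫ (Scheme.topIso (Spec (CommRingCat.of k))).inv) ≫
    (⊤ : (Spec (CommRingCat.of k)).Opens).ι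
  have hg : g₁ = g₀ := by simp [g₁]
  intro x
  obtain ⟨e, he⟩ : ∃ e : pullback p g₁ ≅ Spec (CommRingCat.of (k' ⊗[k] A)),
      e.hom ≫ Spec.map (CommRingCat.ofHom (algebraMap k' (k' ⊗[k] A))) = pullback.snd p g₁ := by
    let m := pullback.map p g₁ (Spec.map (CommRingCat.ofHom (algebraMap k A))) g₀
      eA.hom (𝟙 _) (𝟙 _) (by rw [Category.comp_id, heA]) (by rw [Category.comp_id, hg, Category.id_comp])
    have : IsIso m := pullback.map_isIso ..
    refine ⟨asIso m ≪≫ pullbackSymmetry _ _ ≪≫ pullbackSpecIso k k' A, ?_⟩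
    simp only [Iso.trans_hom, asIso_hom, Category.assoc]
    erw [pullbackSpecIso_hom_fst, pullbackSymmetry_hom_comp_fst, pullback.lift_snd, Category.comp_id]
  have : IsAffine (pullback p g₁) := IsAffine.of_isIso e.hom
  refine ⟨⊤, trivial, isAffineOpen_top _, ?_⟩
  exact projective_appTop ((⊤ : (pullback p g₁).Opens).ι ≫ pullback.snd p g₁)
    ((Scheme.topIso _) ≪≫ e) (by rw [Iso.trans_hom, Category.assoc, he]; rfl)

end Groth.Agent.ClosedRep
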