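import Groth.Agent.ClosedRep.EssFree
import Mathlib.CategoryTheory.Monoidal.Cartesian.Over
import Mathlib.AlgebraicGeometry.Morphisms.ClosedImmersion

/-! # Closed loci over essentially free schemes, in `Over S` form -/

universe u

open CategoryTheory AlgebraicGeometry Limits MonoidalCategory CartesianMonoidalCategory

namespace Groth.Agent.ClosedRep

variable {S : Scheme.{u}}

/-- The locus over which a family of maps lands in a closed subscheme is closed. -/
theorem exists_closed_preimage_essFree {X T Y Z : Over S} (f : X ⊗ T ⟶ Y) (i : Z ⟶ Y)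
    [IsClosedImmersion i.left] (hX : SGA3x.IsEssentiallyFree X.hom) :
    ∃ (W : Over S) (j : W ⟶ T), IsClosedImmersion j.left ∧
      ∀ (T' : Over S) (x : T' ⟶ T), (∃ z, z ≫ j = x) ↔
        ∀ (T'' : Over S) (t : T'' ⟶ T') (a : T'' ⟶ X), ∃ b, lift a (t ≫ x) ≫ f = b ≫ i := by
  let κ := Limits.pullback.fst f.left i.left
  obtain ⟨J, hJ⟩ := exists_reps_zeroOn_essFree X.hom T.hom κ.ker hX
  refine ⟨Over.mk (J.subschemeι ≫ T.hom), Over.homMk J.subschemeι rfl,
    inferInstanceAs (IsClosedImmersion J.subschemeι), fun T' x ↦ ?_⟩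
  have h1 : (∃ z, z ≫ Over.homMk (U := Over.mk (J.subschemeι ≫ T.hom)) J.subschemeι rfl = x) ↔
      ∃ z : T'.left ⟶ J.subscheme, z ≫ J.subschemeι = x.left := by
    constructor
    · rintro ⟨z, rfl⟩
      exact ⟨z.left, rfl⟩
    · rintro ⟨z, hz⟩
      refine ⟨Over.homMk z ?_, Over.OverMorphism.ext ((Over.comp_left _ _ _ _ _).trans hz)⟩
      change z ≫ J.subschemeι ≫ T.hom = T'.hom
      rw [reassoc_of% hz, Over.w]
  rw [h1, hJ.factors_iff, Proj.zeroOn_iff X.hom T.hom κ.ker x.left T'.hom (Over.w x), comap_eq_bot_iff]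
  have h2 : (X ◁ x).left = Proj.pm X.hom x.left (Over.w x) := by
    apply pullback.hom_ext
    · rw [Over.whiskerLeft_left_fst, pullback.lift_fst]
    · rw [Over.whiskerLeft_left_snd, pullback.lift_snd]
  rw [← h2]
  constructor
  · intro le T'' t a
    obtain ⟨m, hm⟩ : ∃ m, m ≫ κ = (X ◁ x).left :=
      ⟨IsClosedImmersion.lift κ (X ◁ x).left le, IsClosedImmersion.lift_fac _ _ _⟩
    have hb : (lift a t ≫ X ◁ x ≫ f).left =
        (lift a t).left ≫ (m ≫ Limits.pullback.snd f.left i.left) ≫ i.left := by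
      rw [Category.assoc, ← Limits.pullback.condition, ← Category.assoc m, hm, Over.comp_left,
        Over.comp_left]
    refine ⟨Over.homMk ((lift a t).left ≫ m ≫ Limits.pullback.snd f.left i.left) ?_, ?_⟩
    · rw [← Over.w i, Category.assoc, ← Category.assoc (m ≫ _), ← Category.assoc, ← hb, Over.w]
    · ext1
      rw [← lift_whiskerLeft a t x, Category.assoc]
      exact hb.trans (by simp)
  · intro h
    obtain ⟨b, hb⟩ := h (X ⊗ T') (snd X T') (fst X T')
    rw [show lift (fst X T') (snd X T' ≫ x) = X ◁ x from by ext <;> simp] at hb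
    have hb' : (X ◁ x).left ≫ f.left = b.left ≫ i.left := congr(($hb).left)
    rw [← Limits.pullback.lift_fst (X ◁ x).left b.left hb']
    exact Scheme.Hom.le_ker_comp _ _

end Groth.Agent.ClosedRep
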