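import Groth.Agent.ClosedRep.LFP
import Groth.Agent.ClosedRep.EssFreeOver

/-! # Finite presentation of closed loci defined along essentially free morphisms -/


universe u

open CategoryTheory AlgebraicGeometry Limits MonoidalCategory CartesianMonoidalCategory MonObj GrpObj

namespace Groth.Agent.ClosedRep

variable {S : Scheme.{u}}

/-- Finite presentation of the closed locus. -/
theorem lfp_of_reps_proj {X T : Scheme.{u}} (p : X ⟶ S) [IsAffineHom p] (q : T ⟶ S)
    (I : (pullback p q).IdealSheafData) [LocallyOfFinitePresentation I.subschemeι]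
    (J : T.IdealSheafData) (hJ : Reps (fun T' h ↦ Proj.ZeroOn p q I (T' := T') h) J) :
    LocallyOfFinitePresentation J.subschemeι := by
  refine GrpdFit.lfp_subschemeι _ fun x => ?_
  obtain ⟨V, hV, hx, -⟩ := exists_isAffineOpen_mem_and_subset (U := ⊤) (x := x) trivial
  have : IsAffine V.toScheme := hV
  set q₁ := V.ι ≫ q with hq₁
  set I₁ := I.comap (Proj.pm p V.ι (rfl : V.ι ≫ q = q₁)) with hI₁
  have : IsAffine (pullback p q₁) := isAffine_of_isAffineHom (pullback.snd p q₁)
  have hb : (I₁.ideal ⟨⊤, isAffineOpen_top _⟩).FG := HTopV.fg_ker_ideal (pullback.fst _ _) _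
  have key : ∀ a : Ideal Γ(V.toScheme, ⊤),
      (J.comap V.ι).ideal ⟨⊤, isAffineOpen_top _⟩ ≤ a ↔
        I₁.ideal ⟨⊤, isAffineOpen_top _⟩ ≤ a.map (pullback.snd p q₁).appTop.hom := by
    intro a
    obtain ⟨J₀, rfl⟩ : ∃ J₀ : V.toScheme.IdealSheafData, J₀.ideal ⟨⊤, isAffineOpen_top _⟩ = a :=
      ⟨(Scheme.IdealSheafData.equivOfIsAffine (X := V.toScheme)).symm a,
        (Scheme.IdealSheafData.equivOfIsAffine (X := V.toScheme)).apply_symm_apply a⟩
    have h1 : (J.comap V.ι ≤ J₀) ↔ Proj.ZeroOn p q I (J₀.subschemeι ≫ V.ι) := by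
      have := (hJ.comap V.ι) J₀.subschemeι
      change Proj.ZeroOn p q I (J₀.subschemeι ≫ V.ι) ↔ _ at this
      rw [this, comap_eq_bot_iff, Scheme.IdealSheafData.ker_subschemeι]
    have sq : IsPullback (Proj.pm p J₀.subschemeι (rfl : J₀.subschemeι ≫ q₁ = _))
        (pullback.snd p (J₀.subschemeι ≫ q₁)) (pullback.snd p q₁) J₀.subschemeι := by
      refine IsPullback.of_right ?_ ?_ (IsPullback.of_hasPullback p q₁)
      · rw [Proj.pm, pullback.lift_fst]
        exact IsPullback.of_hasPullback p (J₀.subschemeι ≫ q₁)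
      · rw [Proj.pm, pullback.lift_snd]
    have h2 : (Proj.pm p J₀.subschemeι (rfl : J₀.subschemeι ≫ q₁ = _)).ker =
        J₀.comap (pullback.snd p q₁) := by
      rw [← sq.isoPullback_hom_fst, Scheme.Hom.ker_comp_of_isIso,
        Scheme.IdealSheafData.ker_fst_of_isClosedImmersion, Scheme.IdealSheafData.ker_subschemeι]
    rw [Proj.zeroOn_iff p q I (J₀.subschemeι ≫ V.ι) (J₀.subschemeι ≫ q₁) (Category.assoc _ _ _),
      ← Proj.pm_comp p J₀.subschemeι V.ι rfl rfl (Category.assoc _ _ _),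
      Scheme.IdealSheafData.comap_comp, comap_eq_bot_iff, h2] at h1
    rw [← FpqcDescent.ideal_comap_of_isAffine]
    exact ⟨fun h => h1.mp (Scheme.IdealSheafData.le_of_isAffine h) _,
      fun h => h1.mpr (Scheme.IdealSheafData.le_of_isAffine h) _⟩
  obtain ⟨a₀, h₀, hfg, hle⟩ := exists_fg_le_map _ _ hb ((key _).mp le_rfl)
  rw [← le_antisymm ((key a₀).mpr hle) h₀] at hfg
  refine ⟨⟨V.ι ''ᵁ ⊤, (isAffineOpen_top V.toScheme).image_of_isOpenImmersion V.ι⟩,
    ⟨⟨x, hx⟩, trivial, rfl⟩, ?_⟩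
  rw [Scheme.IdealSheafData.ideal_comap_of_isOpenImmersion] at hfg
  have := hfg.map (V.ι.appIso ⊤).inv.hom
  rwa [Ideal.map_comap_of_surjective _ (show Function.Surjective (V.ι.appIso ⊤).inv.hom from
    (V.ι.appIso ⊤).commRingCatIsoToRingEquiv.symm.surjective)] at this

/-- The locus over which a family of maps lands in a closed subscheme is closed, of finite presentation if the target subscheme is. -/
theorem exists_closed_preimage_essFree_lfp {X T Y Z : Over S} (f : X ⊗ T ⟶ Y) (i : Z ⟶ Y) [IsClosedImmersion i.left]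
    [LocallyOfFinitePresentation i.left] [IsAffineHom X.hom] (hX : SGA3x.IsEssentiallyFree X.hom) :
    ∃ (W : Over S) (j : W ⟶ T), IsClosedImmersion j.left ∧ LocallyOfFinitePresentation j.left ∧
      ∀ (T' : Over S) (x : T' ⟶ T), (∃ z, z ≫ j = x) ↔
        ∀ (T'' : Over S) (t : T'' ⟶ T') (a : T'' ⟶ X), ∃ b, lift a (t ≫ x) ≫ f = b ≫ i := by
  let κ := Limits.pullback.fst f.left i.left
  obtain ⟨J, hJ⟩ := exists_reps_zeroOn_essFree X.hom T.hom κ.ker hX
  have : LocallyOfFinitePresentation κ.ker.subschemeι := lfp_ker_subschemeι κ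
  refine ⟨Over.mk (J.subschemeι ≫ T.hom), Over.homMk J.subschemeι rfl,
    inferInstanceAs (IsClosedImmersion J.subschemeι),
    lfp_of_reps_proj X.hom T.hom κ.ker J hJ, fun T' x ↦ ?_⟩
  have h1 : (∃ z, z ≫ Over.homMk (U := Over.mk (J.subschemeι ≫ T.hom)) J.subschemeι rfl = x) ↔
      ∃ z : T'.left ⟶ J.subscheme, z ≫ J.subschemeι = x.left := by
    constructor
    · rintro ⟨z, rfl⟩
      exact ⟨z.left, rfl⟩
    · rintro ⟨z, hz⟩
      refine ⟨Over.homMk z ?_, Over.OverMorphism.ext ((Over.comp_left _ _ _ _ _).trans hz)⟩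
      change z ≫ J.subschemeι ≫ T.hom = T'.hom
      rw [reassoc_of% hz, Over.w]
  rw [h1, hJ.factors_iff, Proj.zeroOn_iff X.hom T.hom κ.ker x.left T'.hom (Over.w x), comap_eq_bot_iff]
  have h2 : (X ◁ x).left = Proj.pm X.hom x.left (Over.w x) := by
    apply pullback.hom_ext
    · rw [Over.whiskerLeft_left_fst, pullback.lift_fst]
    · rw [Over.whiskerLeft_left_snd, pullback.lift_snd]
  rw [← h2]
  constructor
  · intro le T'' t a
    obtain ⟨m, hm⟩ : ∃ m, m ≫ κ = (X ◁ x).left :=
      ⟨IsClosedImmersion.lift κ (X ◁ x).left le, IsClosedImmersion.lift_fac _ _ _⟩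
    have hb : (lift a t ≫ X ◁ x ≫ f).left =
        (lift a t).left ≫ (m ≫ Limits.pullback.snd f.left i.left) ≫ i.left := by
      rw [Category.assoc, ← Limits.pullback.condition, ← Category.assoc m, hm, Over.comp_left,
        Over.comp_left]
    refine ⟨Over.homMk ((lift a t).left ≫ m ≫ Limits.pullback.snd f.left i.left) ?_, ?_⟩
    · rw [← Over.w i, Category.assoc, ← Category.assoc (m ≫ _), ← Category.assoc, ← hb, Over.w]
    · ext1
      rw [← lift_whiskerLeft a t x, Category.assoc]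
      exact hb.trans (by simp)
  · intro h
    obtain ⟨b, hb⟩ := h (X ⊗ T') (snd X T') (fst X T')
    rw [show lift (fst X T') (snd X T' ≫ x) = X ◁ x from by ext <;> simp] at hb
    have hb' : (X ◁ x).left ≫ f.left = b.left ≫ i.left := congr(($hb).left)
    rw [← Limits.pullback.lift_fst (X ◁ x).left b.left hb']
    exact Scheme.Hom.le_ker_comp _ _

end Groth.Agent.ClosedRep

namespace Groth.Agent.ClosedRep

/-- Two closed subfunctors of finite presentation intersect in a closed one of finite presentation. -/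
theorem exists_closed_inter_lfp {S : Scheme.{u}} {G T₁ T₂ : Over S} (t₁ : T₁ ⟶ G) (t₂ : T₂ ⟶ G)
    [IsClosedImmersion t₁.left] [IsClosedImmersion t₂.left] [LocallyOfFinitePresentation t₁.left]
    [LocallyOfFinitePresentation t₂.left] :
    ∃ (T : Over S) (t : T ⟶ G), IsClosedImmersion t.left ∧ LocallyOfFinitePresentation t.left ∧
      ∀ (X : Over S) (g : X ⟶ G), (∃ z, z ≫ t = g) ↔ (∃ z, z ≫ t₁ = g) ∧ ∃ z, z ≫ t₂ = g := by
  let q := Limits.pullback.fst t₁.left t₂.left ≫ t₁.left
  refine ⟨Over.mk (q ≫ G.hom), Over.homMk q rfl, inferInstanceAs (IsClosedImmersion q),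
    inferInstanceAs (LocallyOfFinitePresentation q), fun X g => ⟨?_, ?_⟩⟩
  · rintro ⟨z, rfl⟩
    refine ⟨⟨Over.homMk (z.left ≫ Limits.pullback.fst _ _) ?_, ?_⟩,
      ⟨Over.homMk (z.left ≫ Limits.pullback.snd _ _) ?_, ?_⟩⟩
    · rw [← Over.w z, ← Over.w t₁]; simp [q]
    · ext1; simp [q]
    · refine Eq.trans ?_ (Over.w z)
      change _ = z.left ≫ (Limits.pullback.fst _ _ ≫ t₁.left) ≫ G.hom
      rw [Limits.pullback.condition, ← Over.w t₂]; simp only [Category.assoc]
    · ext1; simp [q, Limits.pullback.condition]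
  · rintro ⟨⟨a, ha⟩, ⟨b, hb⟩⟩
    have e : a.left ≫ t₁.left = b.left ≫ t₂.left := by
      rw [← Over.comp_left, ← Over.comp_left, ha, hb]
    refine ⟨Over.homMk (Limits.pullback.lift a.left b.left e) ?_, ?_⟩
    · change Limits.pullback.lift a.left b.left e ≫ q ≫ G.hom = X.hom
      rw [Category.assoc, Over.w t₁, Limits.pullback.lift_fst_assoc, Over.w a]
    · ext1
      change Limits.pullback.lift a.left b.left e ≫ q = g.left
      rw [Limits.pullback.lift_fst_assoc, ← Over.comp_left, ha]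

variable {k : Type u} [Field k] {G : Over (Spec (CommRingCat.of k))} [GrpObj G]

end Groth.Agent.ClosedRep
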