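import Groth.Agent.ClosedRep.Free
import Mathlib.RingTheory.Spectrum.Prime.FreeLocus
import Mathlib.RingTheory.Flat.EquationalCriterion
import Mathlib.RingTheory.Finiteness.ModuleFinitePresentation
import Mathlib.AlgebraicGeometry.Morphisms.Finite
import Mathlib.AlgebraicGeometry.Morphisms.Flat
import Mathlib.AlgebraicGeometry.Morphisms.FinitePresentation

/-! # Finite locally free morphisms are locally free -/

universe u

open CategoryTheory AlgebraicGeometry Limits

namespace Groth.Agent.ClosedRep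

attribute [local instance] RingHomInvPair.of_ringEquiv in
lemma free_iff {A M : Type u} [CommRing A] [AddCommGroup M] [Module A M] (S : Submonoid A)
    (A' M' : Type u) [CommRing A'] [Algebra A A'] [IsLocalization S A'] [AddCommGroup M']
    [Module A M'] [Module A' M'] [IsScalarTower A A' M'] (f : M →ₗ[A] M') [IsLocalizedModule S f] :
    Module.Free (Localization S) (LocalizedModule S M) ↔ Module.Free A' M' := by
  set e := (IsLocalization.algEquiv S (Localization S) A').toRingEquiv
  apply Module.Free.iff_of_equiv (σ := e)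
  refine { __ := IsLocalizedModule.iso S f, map_smul' := ?_ }
  intro r x
  obtain ⟨r, s, rfl⟩ := IsLocalization.exists_mk'_eq S r
  apply ((Module.End.isUnit_iff _).mp (IsLocalizedModule.map_units f s)).1
  simp [e, ← map_smul, ← smul_assoc]

/-- locally free coordinate algebra on a basic open -/
theorem exists_basicOpen_free {A B : Type u} [CommRing A] [CommRing B] [Algebra A B]
    [Module.Finite A B] [Module.Flat A B] [Algebra.FinitePresentation A B]
    (P : PrimeSpectrum A) :
    ∃ r, r ∉ P.asIdeal ∧ ∀ (A' B' : Type u) [CommRing A'] [CommRing B'] [Algebra A A']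
      [Algebra B B'] [Algebra A B'] [Algebra A' B'] [IsScalarTower A B B'] [IsScalarTower A A' B']
      [IsLocalization.Away r A'] [IsLocalization.Away (algebraMap A B r) B'],
      Module.Free A' B' := by
  have : Module.FinitePresentation A B :=
    Module.FinitePresentation.of_finite_of_finitePresentation A B
  have hP : P ∈ Module.freeLocus A B := by
    rw [Module.freeLocus_eq_univ_iff.mpr (Module.Flat.projective_of_finitePresentation)]; trivial
  have := Module.mem_freeLocus.mp hP
  obtain ⟨r, hr, hfree, -⟩ := Module.FinitePresentation.exists_free_localizedModule_powers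
    P.asIdeal.primeCompl (LocalizedModule.mkLinearMap P.asIdeal.primeCompl B)
    (Localization.AtPrime P.asIdeal)
  refine ⟨r, hr, fun A' B' _ _ _ _ _ _ _ _ _ _ ↦ ?_⟩
  have : IsLocalization (Algebra.algebraMapSubmonoid B (Submonoid.powers r)) B' := by
    rw [Algebra.algebraMapSubmonoid, Submonoid.map_powers]
    infer_instance
  have : IsLocalizedModule (Submonoid.powers r) (IsScalarTower.toAlgHom A B B').toLinearMap :=
    isLocalizedModule_iff_isLocalization.mpr this
  exact (free_iff (Submonoid.powers r) A' B'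
    (IsScalarTower.toAlgHom A B B').toLinearMap).mp hfree

/-- finite locally free morphisms are locally free -/
theorem isLocFree_of_finLocFree {X S : Scheme.{u}} (p : X ⟶ S) [IsFinite p] [Flat p]
    [LocallyOfFinitePresentation p] : IsLocFree p := by
  intro s
  obtain ⟨U, hU, hs, -⟩ := exists_isAffineOpen_mem_and_subset (U := ⊤) (x := s) trivial
  have hV : IsAffineOpen (p ⁻¹ᵁ U) := hU.preimage p
  algebraize [(p.app U).hom]
  have : Module.Finite Γ(S, U) Γ(X, p ⁻¹ᵁ U) := IsFinite.finite_app p U hU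
  have : Module.Flat Γ(S, U) Γ(X, p ⁻¹ᵁ U) := by
    have := p.flat_appLE hU hV le_rfl
    rw [← Scheme.Hom.app_eq_appLE] at this
    exact this
  have : Algebra.FinitePresentation Γ(S, U) Γ(X, p ⁻¹ᵁ U) := by
    have := p.finitePresentation_appLE hU hV le_rfl
    rw [← Scheme.Hom.app_eq_appLE] at this
    exact this
  obtain ⟨r, hr, hfree⟩ := exists_basicOpen_free (B := Γ(X, p ⁻¹ᵁ U)) (hU.primeIdealOf ⟨s, hs⟩)
  let W : X.Opens := X.basicOpen ((p.app U).hom r)
  have eW : p ⁻¹ᵁ S.basicOpen r = W := Scheme.preimage_basicOpen p r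
  refine ⟨⟨S.basicOpen r, hU.basicOpen r⟩, PUnit, fun _ ↦ ⟨W, hV.basicOpen _⟩, fun _ ↦ eW.ge,
    ?_, fun x hx ↦ ⟨⟨⟩, eW.le hx⟩, fun _ ↦ ?_⟩
  · change (⟨s, hs⟩ : U).1 ∈ S.basicOpen r
    rw [← hU.fromSpec_primeIdealOf ⟨s, hs⟩]
    change hU.primeIdealOf ⟨s, hs⟩ ∈ hU.fromSpec ⁻¹ᵁ S.basicOpen r
    rw [hU.fromSpec_preimage_basicOpen]
    exact hr
  let φ : _ →+* _ := (p.appLE (S.basicOpen r) W eW.ge).hom
  let ψA : _ →+* _ := (S.presheaf.map (homOfLE (S.basicOpen_le r)).op).hom
  let ψB : _ →+* _ := (X.presheaf.map (homOfLE (X.basicOpen_le ((p.app U).hom r))).op).hom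
  algebraize [φ, ψA, ψB, φ.comp ψA]
  have : IsScalarTower Γ(S, U) Γ(X, p ⁻¹ᵁ U) Γ(X, W) := .of_algebraMap_eq' (by
    change φ.comp ψA = ψB.comp (p.app U).hom
    rw [← CommRingCat.hom_comp, ← CommRingCat.hom_comp]
    congr 1
    simp [Scheme.Hom.map_appLE, Scheme.Hom.app_eq_appLE, Scheme.Hom.appLE_map]
    rfl)
  have : IsScalarTower Γ(S, U) Γ(S, S.basicOpen r) Γ(X, W) := .of_algebraMap_eq' rfl
  have : IsLocalization.Away r Γ(S, S.basicOpen r) := hU.isLocalization_basicOpen r
  have : IsLocalization.Away (algebraMap Γ(S, U) Γ(X, p ⁻¹ᵁ U) r) Γ(X, W) :=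
    hV.isLocalization_basicOpen ((p.app U).hom r)
  exact hfree Γ(S, S.basicOpen r) Γ(X, W)

end Groth.Agent.ClosedRep
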