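import Groth.Agent.ClosedRep.Proj
import Groth.Prelude.Def_SGA3x
import Mathlib.AlgebraicGeometry.Morphisms.Flat

/-! # Weil restriction of closed subschemes along essentially free morphisms -/

universe u

open CategoryTheory AlgebraicGeometry Limits TopologicalSpace

namespace Groth.Agent.ClosedRep

theorem mem_single {X Y : Scheme.{u}} (g : X ⟶ Y) [Flat g] [Surjective g] [QuasiCompact g] :
    Presieve.ofArrows (fun _ : PUnit.{u + 1} => X) (fun _ => g) ∈ Scheme.fpqcPrecoverage Y := by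
  rw [Presieve.ofArrows_pUnit]
  exact g.singleton_mem_fpqcPrecoverage

/-- being zero is local for the fpqc topology -/
theorem eq_bot_of_fpqc {X Y : Scheme.{u}} (g : X ⟶ Y) [Flat g] [Surjective g] [QuasiCompact g]
    (J : Y.IdealSheafData) (h : J.comap g = ⊥) : J = ⊥ := by
  obtain ⟨K, -, hu⟩ := FpqcDescent.existsUnique_descent (mem_single g)
    (fun _ => (⊥ : X.IdealSheafData)) (fun _ _ => by rw [bot_comap, bot_comap])
  exact (hu J fun _ => h).trans (hu ⊥ fun _ => bot_comap g).symm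

/-- representability by closed subschemes descends along fpqc morphisms -/
theorem exists_reps_of_fpqc {T T₁ : Scheme.{u}} (g : T₁ ⟶ T) [Flat g] [Surjective g] [QuasiCompact g]
    {P : ∀ ⦃T' : Scheme.{u}⦄, (T' ⟶ T) → Prop}
    (hP : ∀ ⦃T' : Scheme.{u}⦄ (h : T' ⟶ T), P (pullback.fst h g ≫ h) → P h)
    (hP' : ∀ ⦃T' T'' : Scheme.{u}⦄ (a : T'' ⟶ T') (h : T' ⟶ T), P h → P (a ≫ h))
    {J₁ : T₁.IdealSheafData} (hJ : Reps (fun _ h ↦ P (h ≫ g)) J₁) :
    ∃ J : T.IdealSheafData, Reps P J := by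
  obtain ⟨J, hJ', -⟩ := FpqcDescent.existsUnique_descent (mem_single g) (fun _ => J₁) fun _ _ => by
    refine Reps.eq (P := fun _ h ↦ P (h ≫ pullback.fst g g ≫ g)) ?_ ?_
    · intro T' h
      simpa only [Category.assoc] using hJ.comap (pullback.fst g g) h
    · intro T' h
      simpa only [pullback.condition (f := g) (g := g), Category.assoc] using
        hJ.comap (pullback.snd g g) h
  refine ⟨J, fun T' h ↦ ?_⟩
  have key : P (pullback.fst h g ≫ h) ↔ (J.comap h).comap (pullback.fst h g) = ⊥ := by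
    rw [← Scheme.IdealSheafData.comap_comp, pullback.condition, Scheme.IdealSheafData.comap_comp,
      hJ' PUnit.unit]
    exact hJ _
  exact ⟨fun h' => eq_bot_of_fpqc _ _ (key.1 (hP' _ _ h')),
    fun h' => hP _ (key.2 (by rw [h', bot_comap]))⟩

variable {S X T : Scheme.{u}}

/-- The main theorem for essentially free morphisms. -/
theorem exists_reps_zeroOn_essFree (p : X ⟶ S) (q : T ⟶ S) (I : (pullback p q).IdealSheafData)
    (hp : SGA3x.IsEssentiallyFree p) :
    ∃ J : T.IdealSheafData, Reps (fun T' h ↦ Proj.ZeroOn p q I (T' := T') h) J := by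
  have hloc := Proj.isLocal_zeroOn p q I
  have hV : ∀ t : T, ∃ V : T.affineOpens, t ∈ V.1 ∧ ∃ (U : S.Opens) (_ : IsAffineOpen U)
      (S' : Scheme.{u}) (_ : IsAffine S') (g : S' ⟶ (U : Scheme.{u})), Flat g ∧ Surjective g ∧
      V.1 ≤ q ⁻¹ᵁ U ∧ ∀ x : ↥(pullback p (g ≫ U.ι)), ∃ W : (pullback p (g ≫ U.ι)).Opens,
        x ∈ W ∧ IsAffineOpen W ∧ (letI := (W.ι ≫ pullback.snd p (g ≫ U.ι)).appTop.hom.toAlgebra
          Module.Projective Γ(S', ⊤) Γ(↑W, ⊤)) := fun t ↦ by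
    obtain ⟨U, hs, hU, S', hS', g, hf, hg, hW⟩ := hp (q t)
    obtain ⟨V, hV, htV, hVU⟩ := exists_isAffineOpen_mem_and_subset (U := q ⁻¹ᵁ U) (x := t) hs
    exact ⟨⟨V, hV⟩, htV, U, hU, S', hS', g, hf, hg, hVU, hW⟩
  choose V htV U hU S' hS' g hfl hsurj hVU hW using hV
  refine exists_reps_of_openCover hloc
    (T.openCoverOfIsOpenCover (fun t ↦ (V t).1) (IsOpenCover.mk (top_le_iff.mp fun t _ ↦
      Opens.mem_iSup.mpr ⟨t, htV t⟩))) fun t ↦ ?_
  have : IsAffine (V t).1.toScheme := (V t).2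
  have : IsAffine (U t).toScheme := hU t
  have := hS' t; have := hfl t; have := hsurj t
  have hqc : QuasiCompact (g t) := inferInstance
  change ∃ J : (V t).1.toScheme.IdealSheafData, Reps (fun _ h ↦ Proj.ZeroOn p q I (h ≫ (V t).1.ι)) J
  let v : (V t).1.toScheme ⟶ (U t).toScheme := IsOpenImmersion.lift (U t).ι ((V t).1.ι ≫ q) (by
    rintro _ ⟨x, rfl⟩
    rw [Scheme.Opens.range_ι]
    exact hVU t x.2)
  have hv : v ≫ (U t).ι = (V t).1.ι ≫ q := IsOpenImmersion.lift_fac _ _ _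
  let g₁ := pullback.fst v (g t)
  let q₁ := pullback.snd v (g t)
  let p' := pullback.snd p (g t ≫ (U t).ι)
  have hq₁ : (g₁ ≫ (V t).1.ι) ≫ q = q₁ ≫ g t ≫ (U t).ι := by
    rw [Category.assoc, ← hv, reassoc_of% pullback.condition (f := v) (g := g t)]
  -- base change: `X ×ₛ S' ×_{S'} T₁ ≅ X ×ₛ T₁`
  let β := (pullbackLeftPullbackSndIso p (g t ≫ (U t).ι) q₁).hom ≫
    Proj.pm p (g₁ ≫ (V t).1.ι) hq₁
  have hproj : Proj.IsLocProj p' := by
    intro s
    choose W hxW hWa hWp using hW t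
    refine ⟨⟨⊤, isAffineOpen_top _⟩, _, fun x => ⟨W x, hWa x⟩, fun _ _ _ => trivial, trivial,
      fun x _ => ⟨x, hxW x⟩, fun x => ?_⟩
    let : Algebra Γ(S' t, ⊤) Γ(↑(W x), ⊤) := ((W x).ι ≫ p').appTop.hom.toAlgebra
    have : Module.Projective Γ(S' t, ⊤) Γ(↑(W x), ⊤) := hWp x
    let : Algebra Γ(S' t, ⊤) Γ(pullback p (g t ≫ (U t).ι), W x) :=
      (p'.appLE ⊤ (W x) (fun _ _ => trivial)).hom.toAlgebra
    let e : Γ(↑(W x), ⊤) ≃ₐ[Γ(S' t, ⊤)] Γ(pullback p (g t ≫ (U t).ι), W x) :=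
      AlgEquiv.ofRingEquiv (f := (W x).topIso.commRingCatIsoToRingEquiv) fun a => by
        change (((W x).ι ≫ p').appTop ≫ (W x).topIso.hom).hom a = (p'.appLE ⊤ (W x) _).hom a
        congr 2
        simp [Scheme.Hom.appLE, -CommRingCat.hom_comp]
        exact congrArg (Scheme.Hom.app p' ⊤ ≫ ·) ((Functor.map_comp _ _ _).symm.trans rfl)
    exact Module.Projective.of_equiv e.toLinearEquiv
  obtain ⟨J₁, hJ₁⟩ := Proj.exists_reps_zeroOn p' q₁ (I.comap β) hproj
  have key : ∀ ⦃T' : Scheme.{u}⦄ (h : T' ⟶ pullback v (g t)),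
      Proj.ZeroOn p' q₁ (I.comap β) h ↔ Proj.ZeroOn p q I ((h ≫ g₁) ≫ (V t).1.ι) := by
    intro T' h
    let δ := (pullbackLeftPullbackSndIso p (g t ≫ (U t).ι) (h ≫ q₁)).hom
    have e1 : ((h ≫ g₁) ≫ (V t).1.ι) ≫ q = (h ≫ q₁) ≫ g t ≫ (U t).ι := by
      have := hq₁
      simp only [Category.assoc] at this ⊢
      rw [this]
    rw [Proj.zeroOn_iff p q I _ ((h ≫ q₁) ≫ g t ≫ (U t).ι) e1]
    have e2 : Proj.pm p' h rfl ≫ β = δ ≫ Proj.pm p _ e1 := by
      apply pullback.hom_ext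
      · simp only [β, δ, Proj.pm, Category.assoc]
        conv_lhs => arg 2; arg 2; erw [pullback.lift_fst]
        conv_rhs => arg 2; erw [pullback.lift_fst]
        erw [pullbackLeftPullbackSndIso_hom_fst, pullbackLeftPullbackSndIso_hom_fst,
          pullback.lift_fst_assoc]
      · simp only [β, δ, Proj.pm, Category.assoc]
        erw [pullback.lift_snd, pullback.lift_snd, pullbackLeftPullbackSndIso_hom_snd_assoc,
          pullback.lift_snd_assoc, pullbackLeftPullbackSndIso_hom_snd_assoc]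
        simp only [Category.assoc]
        rfl
    change (I.comap β).comap (Proj.pm p' h rfl) = ⊥ ↔ _
    rw [← Scheme.IdealSheafData.comap_comp, e2, Scheme.IdealSheafData.comap_comp]
    refine ⟨fun h' => ?_, fun h' => by rw [h', bot_comap]⟩
    have := congrArg (Scheme.IdealSheafData.comap · (inv δ)) h'
    simp only [← Scheme.IdealSheafData.comap_comp, IsIso.inv_hom_id_assoc, bot_comap] at this
    exact this
  refine exists_reps_of_fpqc g₁ (P := fun _ h ↦ Proj.ZeroOn p q I (h ≫ (V t).1.ι)) ?_ ?_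
    (fun T' h => (key h).symm.trans (hJ₁ h))
  · intro T' h hz
    let a := pullback.fst h g₁
    have ea : (a ≫ h ≫ (V t).1.ι) ≫ q = a ≫ (h ≫ (V t).1.ι) ≫ q := Category.assoc _ _ _
    rw [show (a ≫ h) ≫ (V t).1.ι = a ≫ h ≫ (V t).1.ι from Category.assoc _ _ _,
      Proj.zeroOn_iff p q I _ (a ≫ (h ≫ (V t).1.ι) ≫ q) ea, ← Proj.pm_comp p a _ rfl rfl ea,
      Scheme.IdealSheafData.comap_comp] at hz
    have hb : IsPullback (Proj.pm p a (rfl : a ≫ (h ≫ (V t).1.ι) ≫ q = _))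
        (pullback.snd p (a ≫ (h ≫ (V t).1.ι) ≫ q)) (pullback.snd p ((h ≫ (V t).1.ι) ≫ q)) a := by
      refine IsPullback.of_right ?_ (pullback.lift_snd _ _ _) (IsPullback.of_hasPullback p _)
      rw [pullback.lift_fst]
      exact IsPullback.of_hasPullback p _
    have : Flat (Proj.pm p a (rfl : a ≫ (h ≫ (V t).1.ι) ≫ q = _)) :=
      MorphismProperty.of_isPullback hb.flip (inferInstance : Flat a)
    have : Surjective (Proj.pm p a (rfl : a ≫ (h ≫ (V t).1.ι) ≫ q = _)) :=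
      MorphismProperty.of_isPullback hb.flip (inferInstance : Surjective a)
    have : QuasiCompact (Proj.pm p a (rfl : a ≫ (h ≫ (V t).1.ι) ≫ q = _)) :=
      MorphismProperty.of_isPullback hb.flip (inferInstance : QuasiCompact a)
    exact eq_bot_of_fpqc _ _ hz
  · intro T' T'' a h hz
    have ea : (a ≫ h ≫ (V t).1.ι) ≫ q = a ≫ (h ≫ (V t).1.ι) ≫ q := Category.assoc _ _ _
    rw [show (a ≫ h) ≫ (V t).1.ι = a ≫ h ≫ (V t).1.ι from Category.assoc _ _ _,
      Proj.zeroOn_iff p q I _ (a ≫ (h ≫ (V t).1.ι) ≫ q) ea, ← Proj.pm_comp p a _ rfl rfl ea,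
      Scheme.IdealSheafData.comap_comp, show I.comap _ = ⊥ from hz, bot_comap]

end Groth.Agent.ClosedRep
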