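import Groth.Agent.ClosedRep.EssFreeLFP

/-! # Weil restriction of a closed subscheme along an essentially free morphism -/

universe u

open CategoryTheory AlgebraicGeometry Limits TopologicalSpace

namespace Groth.Agent.ClosedRep

variable {S : Scheme.{u}}

theorem le_iff_ideal_top {X : Scheme.{u}} [IsAffine X] {I J : X.IdealSheafData} :
    I ≤ J ↔ I.ideal ⟨⊤, isAffineOpen_top X⟩ ≤ J.ideal ⟨⊤, isAffineOpen_top X⟩ :=
  ⟨fun h => h _, Scheme.IdealSheafData.le_of_isAffine⟩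

theorem exists_fg_le_map_pi {R : Type u} [CommRing R] {ι : Type*} [Finite ι] {A : ι → Type u}
    [∀ i, CommRing (A i)] (φ : ∀ i, R →+* A i) (a : Ideal R) {b : ∀ i, Ideal (A i)}
    (hb : ∀ i, (b i).FG) (h : ∀ i, b i ≤ a.map (φ i)) :
    ∃ a₀ ≤ a, a₀.FG ∧ ∀ i, b i ≤ a₀.map (φ i) := by
  choose c hc hfg hle using fun i => exists_fg_le_map (φ i) a (hb i) (h i)
  exact ⟨⨆ i, c i, iSup_le hc, Submodule.fg_iSup _ hfg,
    fun i => (hle i).trans (Ideal.map_mono (le_iSup c i))⟩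

/-- Finite presentation of the closed locus, quasi-compact case. -/
theorem lfp_of_reps_proj_qc {X T : Scheme.{u}} (p : X ⟶ S) [QuasiCompact p] (q : T ⟶ S)
    (I : (pullback p q).IdealSheafData) [LocallyOfFinitePresentation I.subschemeι]
    (J : T.IdealSheafData) (hJ : Reps (fun T' h ↦ Proj.ZeroOn p q I (T' := T') h) J) :
    LocallyOfFinitePresentation J.subschemeι := by
  refine GrpdFit.lfp_subschemeι _ fun x => ?_
  obtain ⟨V, hV, hx, -⟩ := exists_isAffineOpen_mem_and_subset (U := ⊤) (x := x) trivial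
  have : IsAffine V.toScheme := hV
  set q₁ := V.ι ≫ q with hq₁
  set I₁ := I.comap (Proj.pm p V.ι (rfl : V.ι ≫ q = q₁)) with hI₁
  have : CompactSpace ↥(pullback p q₁) := QuasiCompact.compactSpace_of_compactSpace (pullback.snd p q₁)
  obtain ⟨𝒰, hfin, haff⟩ : ∃ 𝒰 : Scheme.OpenCover.{u} (pullback p q₁),
      Finite 𝒰.I₀ ∧ ∀ k, IsAffine (𝒰.X k) :=
    ⟨(pullback p q₁).affineCover.finiteSubcover, inferInstance, fun k => inferInstance⟩
  have : ∀ k, IsAffine (𝒰.X k) := haff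
  have : Finite 𝒰.I₀ := hfin
  have : LocallyOfFinitePresentation I₁.subschemeι := by
    rw [← Scheme.IdealSheafData.comapIso_hom_fst]
    infer_instance
  have hI₁' : I₁ = I₁.subschemeι.ker := (I₁.ker_subschemeι).symm
  have hb : ∀ k, (((I₁.comap (𝒰.f k))).ideal ⟨⊤, isAffineOpen_top _⟩).FG := fun k => by
    rw [hI₁', ← Scheme.IdealSheafData.ker_fst_of_isClosedImmersion]
    exact HTopV.fg_ker_ideal (pullback.fst _ _) _
  have key : ∀ a : Ideal Γ(V.toScheme, ⊤),
      (J.comap V.ι).ideal ⟨⊤, isAffineOpen_top _⟩ ≤ a ↔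
        ∀ k, (I₁.comap (𝒰.f k)).ideal ⟨⊤, isAffineOpen_top _⟩ ≤
          a.map (𝒰.f k ≫ pullback.snd p q₁).appTop.hom := by
    intro a
    obtain ⟨J₀, rfl⟩ : ∃ J₀ : V.toScheme.IdealSheafData, J₀.ideal ⟨⊤, isAffineOpen_top _⟩ = a :=
      ⟨(Scheme.IdealSheafData.equivOfIsAffine (X := V.toScheme)).symm a,
        (Scheme.IdealSheafData.equivOfIsAffine (X := V.toScheme)).apply_symm_apply a⟩
    have h1 : (J.comap V.ι ≤ J₀) ↔ Proj.ZeroOn p q I (J₀.subschemeι ≫ V.ι) := by
      have := (hJ.comap V.ι) J₀.subschemeι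
      change Proj.ZeroOn p q I (J₀.subschemeι ≫ V.ι) ↔ _ at this
      rw [this, comap_eq_bot_iff, Scheme.IdealSheafData.ker_subschemeι]
    have sq : IsPullback (Proj.pm p J₀.subschemeι (rfl : J₀.subschemeι ≫ q₁ = _))
        (pullback.snd p (J₀.subschemeι ≫ q₁)) (pullback.snd p q₁) J₀.subschemeι := by
      refine IsPullback.of_right ?_ ?_ (IsPullback.of_hasPullback p q₁)
      · rw [Proj.pm, pullback.lift_fst]
        exact IsPullback.of_hasPullback p (J₀.subschemeι ≫ q₁)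
      · rw [Proj.pm, pullback.lift_snd]
    have h2 : (Proj.pm p J₀.subschemeι (rfl : J₀.subschemeι ≫ q₁ = _)).ker =
        J₀.comap (pullback.snd p q₁) := by
      rw [← sq.isoPullback_hom_fst, Scheme.Hom.ker_comp_of_isIso,
        Scheme.IdealSheafData.ker_fst_of_isClosedImmersion, Scheme.IdealSheafData.ker_subschemeι]
    rw [Proj.zeroOn_iff p q I (J₀.subschemeι ≫ V.ι) (J₀.subschemeι ≫ q₁) (Category.assoc _ _ _),
      ← Proj.pm_comp p J₀.subschemeι V.ι rfl rfl (Category.assoc _ _ _),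
      Scheme.IdealSheafData.comap_comp, comap_eq_bot_iff, h2] at h1
    have h3 : ∀ k, (I₁.comap (𝒰.f k)).ideal ⟨⊤, isAffineOpen_top _⟩ ≤
        (J₀.ideal ⟨⊤, isAffineOpen_top _⟩).map (𝒰.f k ≫ pullback.snd p q₁).appTop.hom ↔
        I₁.comap (𝒰.f k) ≤ (J₀.comap (pullback.snd p q₁)).comap (𝒰.f k) := fun k => by
      rw [← FpqcDescent.ideal_comap_of_isAffine, ← Scheme.IdealSheafData.comap_comp J₀]
      exact le_iff_ideal_top.symm
    rw [forall_congr' h3]
    constructor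
    · intro h k
      exact Scheme.IdealSheafData.comap_mono (f := 𝒰.f k) (h1.mp (Scheme.IdealSheafData.le_of_isAffine h))
    · intro h
      refine h1.mpr ?_ _
      rw [← Scheme.IdealSheafData.ker_subschemeι (J₀.comap (pullback.snd p q₁)), ← comap_eq_bot_iff]
      refine eq_bot_of_cover _ (𝒰.pullback₁ (J₀.comap (pullback.snd p q₁)).subschemeι) fun k => ?_
      change (I₁.comap _).comap (pullback.fst _ (𝒰.f k)) = ⊥
      rw [← Scheme.IdealSheafData.comap_comp, pullback.condition, Scheme.IdealSheafData.comap_comp,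
        comap_eq_bot_iff]
      refine (h k).trans (le_of_eq ?_)
      rw [← pullbackSymmetry_hom_comp_fst (J₀.comap (pullback.snd p q₁)).subschemeι (𝒰.f k),
        Scheme.Hom.ker_comp_of_isIso, Scheme.IdealSheafData.ker_fst_of_isClosedImmersion,
        Scheme.IdealSheafData.ker_subschemeι]
  obtain ⟨a₀, h₀, hfg, hle⟩ := exists_fg_le_map_pi _ _ hb ((key _).mp le_rfl)
  rw [← le_antisymm ((key a₀).mpr hle) h₀] at hfg
  refine ⟨⟨V.ι ''ᵁ ⊤, (isAffineOpen_top V.toScheme).image_of_isOpenImmersion V.ι⟩,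
    ⟨⟨x, hx⟩, trivial, rfl⟩, ?_⟩
  rw [Scheme.IdealSheafData.ideal_comap_of_isOpenImmersion] at hfg
  have := hfg.map (V.ι.appIso ⊤).inv.hom
  rwa [Ideal.map_comap_of_surjective _ (show Function.Surjective (V.ι.appIso ⊤).inv.hom from
    (V.ι.appIso ⊤).commRingCatIsoToRingEquiv.symm.surjective)] at this

/-- `Y ×_Z X_{S'} → X_{S'}` is an isomorphism iff the ideal of `Y` vanishes on `X_{S'}` -/
theorem isIso_snd_iff {X Y Z : Scheme.{u}} (j : Y ⟶ Z) [IsClosedImmersion j] (a : X ⟶ Z) :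
    IsIso (pullback.snd j a) ↔ j.ker.comap a = ⊥ := by
  rw [IsClosedImmersion.isIso_iff_ker_eq_bot, ← pullbackSymmetry_hom_comp_fst,
    Scheme.Hom.ker_comp_of_isIso, Scheme.IdealSheafData.ker_fst_of_isClosedImmersion]

/-- Weil restriction of a closed subscheme along an essentially free morphism. -/
theorem exists_weilRestriction_closed {Z Y : Scheme.{u}} (f : Z ⟶ S)
    (hf : SGA3x.IsEssentiallyFree f) (j : Y ⟶ Z) [IsClosedImmersion j] :
    ∃ (T : Scheme.{u}) (t : T ⟶ S), IsClosedImmersion t ∧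
      (∀ (S' : Scheme.{u}) (g : S' ⟶ S),
        (∃ g' : S' ⟶ T, g' ≫ t = g) ↔ IsIso (pullback.snd j (pullback.fst f g))) ∧
      (QuasiCompact f → LocallyOfFinitePresentation j → LocallyOfFinitePresentation t) := by
  let I := j.ker.comap (pullback.fst f (𝟙 S))
  obtain ⟨J, hJ⟩ := exists_reps_zeroOn_essFree f (𝟙 S) I hf
  refine ⟨J.subscheme, J.subschemeι, inferInstance, fun S' g => ?_, fun _ _ => ?_⟩
  · rw [hJ.factors_iff, Proj.zeroOn_iff f (𝟙 S) I g g (Category.comp_id g), isIso_snd_iff,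
      ← Scheme.IdealSheafData.comap_comp, Proj.pm, pullback.lift_fst]
  · have : LocallyOfFinitePresentation I.subschemeι := by
      have := lfp_ker_subschemeι (pullback.fst (pullback.fst f (𝟙 S)) j)
      rwa [Scheme.IdealSheafData.ker_fst_of_isClosedImmersion] at this
    exact lfp_of_reps_proj_qc f (𝟙 S) I J hJ

end Groth.Agent.ClosedRep
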