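import Groth.Agent.ClosedRep.Preimage
import Groth.Agent.GrpdFit.Ideal
import Groth.Agent.HTopV.PhSquare

/-! # Finite presentation of closed loci defined by Weil restriction -/

universe u

open CategoryTheory AlgebraicGeometry Limits MonoidalCategory CartesianMonoidalCategory MonObj GrpObj

namespace Groth.Agent.ClosedRep

variable {S : Scheme.{u}}

theorem exists_fg_le_map {R A : Type u} [CommRing R] [CommRing A] (φ : R →+* A) (a : Ideal R)
    {b : Ideal A} (hb : b.FG) (h : b ≤ a.map φ) :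
    ∃ a₀ ≤ a, a₀.FG ∧ b ≤ a₀.map φ := by
  classical
  obtain ⟨s, rfl⟩ := hb
  induction s using Finset.induction with
  | empty => exact ⟨⊥, bot_le, Submodule.fg_bot, by simp⟩
  | insert x s hx ih =>
    rw [Finset.coe_insert, Ideal.span_insert, sup_le_iff, Ideal.span_singleton_le_iff_mem] at h
    obtain ⟨a₀, h₀, hfg, hle⟩ := ih h.2
    obtain ⟨t, ht, hxt⟩ := Submodule.mem_span_finite_of_mem_span h.1
    choose g hga hg using fun y : (t : Set A) => ht y.2
    refine ⟨a₀ ⊔ Ideal.span (Set.range g), sup_le h₀ (Ideal.span_le.mpr ?_),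
      Submodule.FG.sup hfg (Submodule.fg_span (Set.finite_range g)), ?_⟩
    · rintro _ ⟨y, rfl⟩
      exact hga y
    rw [Finset.coe_insert, Ideal.span_insert, sup_le_iff, Ideal.span_singleton_le_iff_mem]
    refine ⟨?_, hle.trans (Ideal.map_mono le_sup_left)⟩
    refine (Submodule.span_le.mpr ?_ : Submodule.span A (t : Set A) ≤ _) hxt
    intro y hy
    rw [show y = φ (g ⟨y, hy⟩) from (hg ⟨y, hy⟩).symm]
    exact Ideal.mem_map_of_mem _ (Ideal.mem_sup_right (Ideal.subset_span ⟨_, rfl⟩))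

theorem lfp_ker_subschemeι {Z X : Scheme.{u}} (i : Z ⟶ X) [IsClosedImmersion i]
    [LocallyOfFinitePresentation i] : LocallyOfFinitePresentation i.ker.subschemeι := by
  refine GrpdFit.lfp_subschemeι _ fun x => ?_
  obtain ⟨U, hU, hx, -⟩ := exists_isAffineOpen_mem_and_subset (U := ⊤) (x := x) trivial
  exact ⟨⟨U, hU⟩, hx, HTopV.fg_ker_ideal i _⟩

theorem lfp_of_reps {X T : Scheme.{u}} (p : X ⟶ S) [IsAffineHom p] (q : T ⟶ S)
    (I : (pullback p q).IdealSheafData) [LocallyOfFinitePresentation I.subschemeι]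
    (J : T.IdealSheafData) (hJ : Reps (fun T' h ↦ ZeroOn p q I (T' := T') h) J) :
    LocallyOfFinitePresentation J.subschemeι := by
  refine GrpdFit.lfp_subschemeι _ fun x => ?_
  obtain ⟨V, hV, hx, -⟩ := exists_isAffineOpen_mem_and_subset (U := ⊤) (x := x) trivial
  have : IsAffine V.toScheme := hV
  set q₁ := V.ι ≫ q with hq₁
  set I₁ := I.comap (pm p V.ι (rfl : V.ι ≫ q = q₁)) with hI₁
  have : IsAffine (pullback p q₁) := isAffine_of_isAffineHom (pullback.snd p q₁)
  have hb : (I₁.ideal ⟨⊤, isAffineOpen_top _⟩).FG := HTopV.fg_ker_ideal (pullback.fst _ _) _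
  have key : ∀ a : Ideal Γ(V.toScheme, ⊤),
      (J.comap V.ι).ideal ⟨⊤, isAffineOpen_top _⟩ ≤ a ↔
        I₁.ideal ⟨⊤, isAffineOpen_top _⟩ ≤ a.map (pullback.snd p q₁).appTop.hom := by
    intro a
    obtain ⟨J₀, rfl⟩ : ∃ J₀ : V.toScheme.IdealSheafData, J₀.ideal ⟨⊤, isAffineOpen_top _⟩ = a :=
      ⟨(Scheme.IdealSheafData.equivOfIsAffine (X := V.toScheme)).symm a,
        (Scheme.IdealSheafData.equivOfIsAffine (X := V.toScheme)).apply_symm_apply a⟩
    have h1 : (J.comap V.ι ≤ J₀) ↔ ZeroOn p q I (J₀.subschemeι ≫ V.ι) := by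
      have := (hJ.comap V.ι) J₀.subschemeι
      change ZeroOn p q I (J₀.subschemeι ≫ V.ι) ↔ _ at this
      rw [this, comap_eq_bot_iff, Scheme.IdealSheafData.ker_subschemeι]
    have sq : IsPullback (pm p J₀.subschemeι (rfl : J₀.subschemeι ≫ q₁ = _))
        (pullback.snd p (J₀.subschemeι ≫ q₁)) (pullback.snd p q₁) J₀.subschemeι := by
      refine IsPullback.of_right ?_ ?_ (IsPullback.of_hasPullback p q₁)
      · rw [pm, pullback.lift_fst]
        exact IsPullback.of_hasPullback p (J₀.subschemeι ≫ q₁)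
      · rw [pm, pullback.lift_snd]
    have h2 : (pm p J₀.subschemeι (rfl : J₀.subschemeι ≫ q₁ = _)).ker =
        J₀.comap (pullback.snd p q₁) := by
      rw [← sq.isoPullback_hom_fst, Scheme.Hom.ker_comp_of_isIso,
        Scheme.IdealSheafData.ker_fst_of_isClosedImmersion, Scheme.IdealSheafData.ker_subschemeι]
    rw [zeroOn_iff p q I (J₀.subschemeι ≫ V.ι) (J₀.subschemeι ≫ q₁) (Category.assoc _ _ _),
      ← pm_comp p J₀.subschemeι V.ι rfl rfl (Category.assoc _ _ _),
      Scheme.IdealSheafData.comap_comp, comap_eq_bot_iff, h2] at h1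
    rw [← FpqcDescent.ideal_comap_of_isAffine]
    exact ⟨fun h => h1.mp (Scheme.IdealSheafData.le_of_isAffine h) _,
      fun h => h1.mpr (Scheme.IdealSheafData.le_of_isAffine h) _⟩
  obtain ⟨a₀, h₀, hfg, hle⟩ := exists_fg_le_map _ _ hb ((key _).mp le_rfl)
  rw [← le_antisymm ((key a₀).mpr hle) h₀] at hfg
  refine ⟨⟨V.ι ''ᵁ ⊤, (isAffineOpen_top V.toScheme).image_of_isOpenImmersion V.ι⟩,
    ⟨⟨x, hx⟩, trivial, rfl⟩, ?_⟩
  rw [Scheme.IdealSheafData.ideal_comap_of_isOpenImmersion] at hfg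
  have := hfg.map (V.ι.appIso ⊤).inv.hom
  rwa [Ideal.map_comap_of_surjective _ (show Function.Surjective (V.ι.appIso ⊤).inv.hom from
    (V.ι.appIso ⊤).commRingCatIsoToRingEquiv.symm.surjective)] at this

/-- The locus over which a family of maps lands in a closed subscheme is closed, of finite presentation if the target subscheme is. -/
theorem exists_closed_preimage_lfp {X T Y Z : Over S} (f : X ⊗ T ⟶ Y) (i : Z ⟶ Y) [IsClosedImmersion i.left]
    [LocallyOfFinitePresentation i.left] [IsAffineHom X.hom] (hX : IsLocFree X.hom) :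
    ∃ (W : Over S) (j : W ⟶ T), IsClosedImmersion j.left ∧ LocallyOfFinitePresentation j.left ∧
      ∀ (T' : Over S) (x : T' ⟶ T), (∃ z, z ≫ j = x) ↔
        ∀ (T'' : Over S) (t : T'' ⟶ T') (a : T'' ⟶ X), ∃ b, lift a (t ≫ x) ≫ f = b ≫ i := by
  let κ := Limits.pullback.fst f.left i.left
  obtain ⟨J, hJ⟩ := exists_reps_zeroOn X.hom T.hom κ.ker hX
  have : LocallyOfFinitePresentation κ.ker.subschemeι := lfp_ker_subschemeι κ
  refine ⟨Over.mk (J.subschemeι ≫ T.hom), Over.homMk J.subschemeι rfl,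
    inferInstanceAs (IsClosedImmersion J.subschemeι),
    lfp_of_reps X.hom T.hom κ.ker J hJ, fun T' x ↦ ?_⟩
  have h1 : (∃ z, z ≫ Over.homMk (U := Over.mk (J.subschemeι ≫ T.hom)) J.subschemeι rfl = x) ↔
      ∃ z : T'.left ⟶ J.subscheme, z ≫ J.subschemeι = x.left := by
    constructor
    · rintro ⟨z, rfl⟩
      exact ⟨z.left, rfl⟩
    · rintro ⟨z, hz⟩
      refine ⟨Over.homMk z ?_, Over.OverMorphism.ext ((Over.comp_left _ _ _ _ _).trans hz)⟩
      change z ≫ J.subschemeι ≫ T.hom = T'.hom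
      rw [reassoc_of% hz, Over.w]
  rw [h1, hJ.factors_iff, zeroOn_iff X.hom T.hom κ.ker x.left T'.hom (Over.w x), comap_eq_bot_iff]
  have h2 : (X ◁ x).left = pm X.hom x.left (Over.w x) := by
    apply pullback.hom_ext
    · rw [Over.whiskerLeft_left_fst, pullback.lift_fst]
    · rw [Over.whiskerLeft_left_snd, pullback.lift_snd]
  rw [← h2]
  constructor
  · intro le T'' t a
    obtain ⟨m, hm⟩ : ∃ m, m ≫ κ = (X ◁ x).left :=
      ⟨IsClosedImmersion.lift κ (X ◁ x).left le, IsClosedImmersion.lift_fac _ _ _⟩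
    have hb : (lift a t ≫ X ◁ x ≫ f).left =
        (lift a t).left ≫ (m ≫ Limits.pullback.snd f.left i.left) ≫ i.left := by
      rw [Category.assoc, ← Limits.pullback.condition, ← Category.assoc m, hm, Over.comp_left,
        Over.comp_left]
    refine ⟨Over.homMk ((lift a t).left ≫ m ≫ Limits.pullback.snd f.left i.left) ?_, ?_⟩
    · rw [← Over.w i, Category.assoc, ← Category.assoc (m ≫ _), ← Category.assoc, ← hb, Over.w]
    · ext1
      rw [← lift_whiskerLeft a t x, Category.assoc]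
      exact hb.trans (by simp)
  · intro h
    obtain ⟨b, hb⟩ := h (X ⊗ T') (snd X T') (fst X T')
    rw [show lift (fst X T') (snd X T' ≫ x) = X ◁ x from by ext <;> simp] at hb
    have hb' : (X ◁ x).left ≫ f.left = b.left ≫ i.left := congr(($hb).left)
    rw [← Limits.pullback.lift_fst (X ◁ x).left b.left hb']
    exact Scheme.Hom.le_ker_comp _ _

end Groth.Agent.ClosedRep
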