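import Groth.Agent.ClosedRep.Over
import Groth.Agent.GrpField.Translate
import Mathlib.AlgebraicGeometry.Morphisms.Immersion

/-! # Transporters into closed subschemes -/

universe u

open CategoryTheory AlgebraicGeometry Limits MonoidalCategory CartesianMonoidalCategory MonObj GrpObj

namespace Groth.Agent.ClosedRep

variable {S : Scheme.{u}}

/-- The locus over which a family of maps lands in a closed subscheme is closed. -/
theorem exists_closed_preimage {X T Y Z : Over S} (f : X ⊗ T ⟶ Y) (i : Z ⟶ Y) [IsClosedImmersion i.left]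
    (hX : IsLocFree X.hom) :
    ∃ (W : Over S) (j : W ⟶ T), IsClosedImmersion j.left ∧
      ∀ (T' : Over S) (x : T' ⟶ T), (∃ z, z ≫ j = x) ↔
        ∀ (T'' : Over S) (t : T'' ⟶ T') (a : T'' ⟶ X), ∃ b, lift a (t ≫ x) ≫ f = b ≫ i := by
  let κ := Limits.pullback.fst f.left i.left
  obtain ⟨J, hJ⟩ := exists_reps_zeroOn X.hom T.hom κ.ker hX
  refine ⟨Over.mk (J.subschemeι ≫ T.hom), Over.homMk J.subschemeι rfl,
    inferInstanceAs (IsClosedImmersion J.subschemeι), fun T' x ↦ ?_⟩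
  have h1 : (∃ z, z ≫ Over.homMk (U := Over.mk (J.subschemeι ≫ T.hom)) J.subschemeι rfl = x) ↔
      ∃ z : T'.left ⟶ J.subscheme, z ≫ J.subschemeι = x.left := by
    constructor
    · rintro ⟨z, rfl⟩
      exact ⟨z.left, rfl⟩
    · rintro ⟨z, hz⟩
      refine ⟨Over.homMk z ?_, Over.OverMorphism.ext ((Over.comp_left _ _ _ _ _).trans hz)⟩
      change z ≫ J.subschemeι ≫ T.hom = T'.hom
      rw [reassoc_of% hz, Over.w]
  rw [h1, hJ.factors_iff, zeroOn_iff X.hom T.hom κ.ker x.left T'.hom (Over.w x), comap_eq_bot_iff]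
  have h2 : (X ◁ x).left = pm X.hom x.left (Over.w x) := by
    apply pullback.hom_ext
    · rw [Over.whiskerLeft_left_fst, pullback.lift_fst]
    · rw [Over.whiskerLeft_left_snd, pullback.lift_snd]
  rw [← h2]
  constructor
  · intro le T'' t a
    obtain ⟨m, hm⟩ : ∃ m, m ≫ κ = (X ◁ x).left :=
      ⟨IsClosedImmersion.lift κ (X ◁ x).left le, IsClosedImmersion.lift_fac _ _ _⟩
    have hb : (lift a t ≫ X ◁ x ≫ f).left =
        (lift a t).left ≫ (m ≫ Limits.pullback.snd f.left i.left) ≫ i.left := by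
      rw [Category.assoc, ← Limits.pullback.condition, ← Category.assoc m, hm, Over.comp_left,
        Over.comp_left]
    refine ⟨Over.homMk ((lift a t).left ≫ m ≫ Limits.pullback.snd f.left i.left) ?_, ?_⟩
    · rw [← Over.w i, Category.assoc, ← Category.assoc (m ≫ _), ← Category.assoc, ← hb, Over.w]
    · ext1
      rw [← lift_whiskerLeft a t x, Category.assoc]
      exact hb.trans (by simp)
  · intro h
    obtain ⟨b, hb⟩ := h (X ⊗ T') (snd X T') (fst X T')
    rw [show lift (fst X T') (snd X T' ≫ x) = X ◁ x from by ext <;> simp] at hb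
    have hb' : (X ◁ x).left ≫ f.left = b.left ≫ i.left := congr(($hb).left)
    rw [← Limits.pullback.lift_fst (X ◁ x).left b.left hb']
    exact Scheme.Hom.le_ker_comp _ _

/-- Two closed subfunctors intersect in a closed one. -/
theorem exists_closed_inter {G T₁ T₂ : Over S} (t₁ : T₁ ⟶ G) (t₂ : T₂ ⟶ G) [IsClosedImmersion t₁.left]
    [IsClosedImmersion t₂.left] :
    ∃ (T : Over S) (t : T ⟶ G), IsClosedImmersion t.left ∧ ∀ (X : Over S) (g : X ⟶ G),
      (∃ z, z ≫ t = g) ↔ (∃ z, z ≫ t₁ = g) ∧ ∃ z, z ≫ t₂ = g := by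
  let q := Limits.pullback.fst t₁.left t₂.left ≫ t₁.left
  refine ⟨Over.mk (q ≫ G.hom), Over.homMk q rfl, inferInstanceAs (IsClosedImmersion q),
    fun X g => ⟨?_, ?_⟩⟩
  · rintro ⟨z, rfl⟩
    refine ⟨⟨Over.homMk (z.left ≫ Limits.pullback.fst _ _) ?_, ?_⟩,
      ⟨Over.homMk (z.left ≫ Limits.pullback.snd _ _) ?_, ?_⟩⟩
    · rw [← Over.w z, ← Over.w t₁]; simp [q]
    · ext1; simp [q]
    · refine Eq.trans ?_ (Over.w z)
      change _ = z.left ≫ (Limits.pullback.fst _ _ ≫ t₁.left) ≫ G.hom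
      rw [Limits.pullback.condition, ← Over.w t₂]; simp only [Category.assoc]
    · ext1; simp [q, Limits.pullback.condition]
  · rintro ⟨⟨a, ha⟩, ⟨b, hb⟩⟩
    have e : a.left ≫ t₁.left = b.left ≫ t₂.left := by
      rw [← Over.comp_left, ← Over.comp_left, ha, hb]
    refine ⟨Over.homMk (Limits.pullback.lift a.left b.left e) ?_, ?_⟩
    · change Limits.pullback.lift a.left b.left e ≫ q ≫ G.hom = X.hom
      rw [Category.assoc, Over.w t₁, Limits.pullback.lift_fst_assoc, Over.w a]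
    · ext1
      change Limits.pullback.lift a.left b.left e ≫ q = g.left
      rw [Limits.pullback.lift_fst_assoc, ← Over.comp_left, ha]

variable {k : Type u} [Field k] {G : Over (Spec (CommRingCat.of k))} [GrpObj G]

/-- The transporter of any `y'` into a closed `y`, over a field. -/
theorem exists_transporter {Y Y' : Over (Spec (CommRingCat.of k))} (y : Y ⟶ G) [IsClosedImmersion y.left]
    (y' : Y' ⟶ G) :
    ∃ (T : Over (Spec (CommRingCat.of k))) (t : T ⟶ G), IsClosedImmersion t.left ∧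
      ∀ (S' : Over (Spec (CommRingCat.of k))) (g : S' ⟶ G), (∃ z : S' ⟶ T, z ≫ t = g) ↔
        ∀ (S'' : Over (Spec (CommRingCat.of k))) (s : S'' ⟶ S') (x : S'' ⟶ Y'),
          ∃ x' : S'' ⟶ Y, (s ≫ g) * (x ≫ y') * (s ≫ g)⁻¹ = x' ≫ y := by
  obtain ⟨T, t, ht, h⟩ := exists_closed_preimage
    ((snd Y' G) * (fst Y' G ≫ y') * (snd Y' G)⁻¹) y (isLocFree_of_field k Y'.hom)
  refine ⟨T, t, ht, fun S' g => (h S' g).trans ?_⟩
  simp only [MonObj.comp_mul, GrpObj.comp_inv, lift_fst_assoc, lift_snd]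

/-- The transporter with inverse conjugation. -/
theorem exists_transporter_inv {Y Y' : Over (Spec (CommRingCat.of k))} (y : Y ⟶ G) [IsClosedImmersion y.left]
    (y' : Y' ⟶ G) :
    ∃ (T : Over (Spec (CommRingCat.of k))) (t : T ⟶ G), IsClosedImmersion t.left ∧
      ∀ (S' : Over (Spec (CommRingCat.of k))) (g : S' ⟶ G), (∃ z : S' ⟶ T, z ≫ t = g) ↔
        ∀ (S'' : Over (Spec (CommRingCat.of k))) (s : S'' ⟶ S') (x : S'' ⟶ Y'),
          ∃ x' : S'' ⟶ Y, (s ≫ g)⁻¹ * (x ≫ y') * (s ≫ g) = x' ≫ y := by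
  obtain ⟨T, t, ht, h⟩ := exists_closed_preimage
    ((snd Y' G)⁻¹ * (fst Y' G ≫ y') * snd Y' G) y (isLocFree_of_field k Y'.hom)
  refine ⟨T, t, ht, fun S' g => (h S' g).trans ?_⟩
  simp only [MonObj.comp_mul, GrpObj.comp_inv, lift_fst_assoc, lift_snd]

end Groth.Agent.ClosedRep
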