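import Groth.Agent.ClosedRep.Local
import Mathlib.AlgebraicGeometry.Pullbacks

/-! # Weil restriction of closed subschemes along locally projective morphisms -/

universe u

open CategoryTheory AlgebraicGeometry Limits TopologicalSpace TensorProduct

namespace Groth.Agent.ClosedRep.Proj

section Coeff

variable {A B C : Type u} [CommRing A] [CommRing B] [CommRing C] [Algebra A B] [Algebra A C]

/-- the coefficients of `x : B ⊗ C` under the linear forms of `B` -/
noncomputable def co (x : B ⊗[A] C) (f : B →ₗ[A] A) : C :=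
  TensorProduct.lid A C (LinearMap.rTensor C f x)

variable {C' : Type u} [CommRing C'] [Algebra A C']

lemma co_map (φ : C →ₐ[A] C') (x : B ⊗[A] C) (f : B →ₗ[A] A) :
    co (Algebra.TensorProduct.map (AlgHom.id A B) φ x) f = φ (co x f) := by
  induction x with
  | zero => simp [co]
  | tmul b c => simp [co]
  | add x y hx hy => simp only [co, map_add] at *; rw [hx, hy]

lemma eq_zero_of_co [Module.Projective A B] (x : B ⊗[A] C) (h : ∀ f, co x f = 0) : x = 0 := by
  classical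
  obtain ⟨s, hs⟩ := Module.projective_def'.mp (inferInstance : Module.Projective A B)
  have e : (LinearMap.rTensor C s) x = 0 := by
    apply (TensorProduct.finsuppLeft A A A C B).injective
    rw [map_zero]
    ext b
    have key : ∀ y : B ⊗[A] C, TensorProduct.lid A C
        ((TensorProduct.finsuppLeft A A A C B (LinearMap.rTensor C s y)) b) =
        co y (Finsupp.lapply b ∘ₗ s) := by
      intro y
      induction y with
      | zero => simp [co]
      | tmul u v => simp [co]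
      | add y z hy hz => simp only [co, map_add, Finsupp.add_apply] at *; rw [hy, hz]
    apply (TensorProduct.lid A C).injective
    rw [key, h, Finsupp.zero_apply, map_zero]
  have e2 := congrArg (LinearMap.rTensor C (Finsupp.linearCombination A (id : B → B))) e
  rwa [map_zero, ← LinearMap.comp_apply, ← LinearMap.rTensor_comp, hs, LinearMap.rTensor_id,
    LinearMap.id_apply] at e2

/-- the coefficient ideal -/
def coeffIdeal (I : Ideal (B ⊗[A] C)) : Ideal C :=
  Ideal.span {c | ∃ x ∈ I, ∃ i, co x i = c}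

lemma coeffIdeal_le_ker_iff [Module.Projective A B] (I : Ideal (B ⊗[A] C)) (φ : C →ₐ[A] C') :
    coeffIdeal I ≤ RingHom.ker φ.toRingHom ↔
      I ≤ RingHom.ker (Algebra.TensorProduct.map (AlgHom.id A B) φ).toRingHom := by
  constructor
  · intro h x hx
    change Algebra.TensorProduct.map (AlgHom.id A B) φ x = 0
    exact eq_zero_of_co _ fun i => (co_map φ x i).trans (h (Ideal.subset_span ⟨x, hx, i, rfl⟩))
  · intro h
    refine Ideal.span_le.mpr ?_
    rintro _ ⟨x, hx, i, rfl⟩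
    change φ (co x i) = 0
    rw [← co_map φ x i, show Algebra.TensorProduct.map (AlgHom.id A B) φ x = 0 from h hx]
    simp [co]

end Coeff

section Spec

/-- the ideal of `R` given by an ideal sheaf on `Spec R` -/
noncomputable def sIdeal {R : CommRingCat.{u}} (I : (Spec R).IdealSheafData) : Ideal R :=
  (I.ideal ⟨⊤, isAffineOpen_top _⟩).map (Scheme.ΓSpecIso R).hom.hom

lemma comap_specMap_eq_bot_iff {R R' : CommRingCat.{u}} (I : (Spec R).IdealSheafData) (φ : R ⟶ R') :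
    I.comap (Spec.map φ) = ⊥ ↔ sIdeal I ≤ RingHom.ker φ.hom := by
  have e : (Spec.map φ).appTop = (Scheme.ΓSpecIso R).hom ≫ φ ≫ (Scheme.ΓSpecIso R').inv := by
    rw [← reassoc_of% (Scheme.ΓSpecIso_naturality φ), Iso.hom_inv_id, Category.comp_id]
  have hbot : I.comap (Spec.map φ) = ⊥ ↔
      (I.comap (Spec.map φ)).ideal ⟨⊤, isAffineOpen_top _⟩ = ⊥ :=
    ⟨fun h ↦ by rw [h, Scheme.IdealSheafData.ideal_bot]; rfl,
      fun h ↦ Scheme.IdealSheafData.ext_of_isAffine
        (h.trans (by rw [Scheme.IdealSheafData.ideal_bot]; rfl))⟩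
  rw [hbot, FpqcDescent.ideal_comap_of_isAffine, e, Ideal.map_eq_bot_iff_le_ker, sIdeal,
    Ideal.map_le_iff_le_comap]
  exact forall₂_congr fun x _ ↦
    map_eq_zero_iff _ (ConcreteCategory.bijective_of_isIso (Scheme.ΓSpecIso R').inv).1

end Spec

variable {S X T : Scheme.{u}}

section pm

variable (p : X ⟶ S) {q : T ⟶ S} {T' : Scheme.{u}} {q' : T' ⟶ S}

/-- the map between fibre products -/
noncomputable abbrev pm (h : T' ⟶ T) (e : h ≫ q = q') : pullback p q' ⟶ pullback p q :=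
  pullback.lift (pullback.fst p q') (pullback.snd p q' ≫ h) (by rw [Category.assoc, e, pullback.condition])

lemma pm_comp {T'' : Scheme.{u}} {q'' : T'' ⟶ S} (g : T'' ⟶ T') (h : T' ⟶ T) (e : h ≫ q = q')
    (e' : g ≫ q' = q'') (e'' : (g ≫ h) ≫ q = q'') : pm p g e' ≫ pm p h e = pm p (g ≫ h) e'' := by
  apply pullback.hom_ext
  · rw [Category.assoc, pullback.lift_fst, pullback.lift_fst, pullback.lift_fst]
  · rw [Category.assoc, pullback.lift_snd, pullback.lift_snd, pullback.lift_snd_assoc, Category.assoc]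

end pm

variable (p : X ⟶ S) (q : T ⟶ S) (I : (pullback p q).IdealSheafData)

/-- `X ×_S T' → X ×_S T` factors through the closed subscheme defined by `I` -/
def ZeroOn ⦃T' : Scheme.{u}⦄ (h : T' ⟶ T) : Prop :=
  I.comap (pm p h (rfl : h ≫ q = _)) = ⊥

lemma zeroOn_iff {T' : Scheme.{u}} (h : T' ⟶ T) (q' : T' ⟶ S) (e : h ≫ q = q') :
    ZeroOn p q I h ↔ I.comap (pm p h e) = ⊥ := by
  subst e; rfl

lemma isLocal_zeroOn : IsLocal (fun T' h ↦ ZeroOn p q I (T' := T') h) := by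
  intro T' h 𝒰
  let 𝒱 : Scheme.OpenCover.{u} (pullback p (h ≫ q)) :=
    Scheme.Pullback.openCoverOfRight 𝒰 p (h ≫ q)
  have key : ∀ i, ZeroOn p q I (𝒰.f i ≫ h) ↔
      (I.comap (pm p h (rfl : h ≫ q = _))).comap (pm p (𝒰.f i) (rfl : _ = 𝒰.f i ≫ h ≫ q)) = ⊥ := by
    intro i
    rw [zeroOn_iff p q I _ (𝒰.f i ≫ h ≫ q) (Category.assoc _ _ _),
      ← pm_comp p (𝒰.f i) h rfl rfl (Category.assoc _ _ _), Scheme.IdealSheafData.comap_comp]
  refine ⟨fun h' i ↦ (key i).mpr (by rw [show _ = ⊥ from h', bot_comap]),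
    fun h' ↦ eq_bot_of_cover _ 𝒱 fun i ↦ ?_⟩
  refine (show 𝒱.f i = pm p (𝒰.f i) rfl from ?_) ▸ (key i).mp (h' i)
  change pullback.map p (𝒰.f i ≫ h ≫ q) p (h ≫ q) (𝟙 X) (𝒰.f i) (𝟙 S) (by simp) (by simp) = _
  apply pullback.hom_ext
  · rw [pullback.lift_fst, pullback.lift_fst, Category.comp_id]
  · rw [pullback.lift_snd, pullback.lift_snd]

/-- `p` has, locally on `S`, affine covers with projective coordinate rings -/
def IsLocProj {X S : Scheme.{u}} (p : X ⟶ S) : Prop :=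
  ∀ s : S, ∃ (U : S.affineOpens) (ι : Type u) (W : ι → X.affineOpens)
    (e : ∀ i, (W i).1 ≤ p ⁻¹ᵁ U.1), s ∈ U.1 ∧ (∀ x, p x ∈ U.1 → ∃ i, x ∈ (W i).1) ∧
    ∀ i, @Module.Projective Γ(S, U.1) _ Γ(X, (W i).1) _
      (p.appLE U.1 (W i).1 (e i)).hom.toAlgebra.toModule

section theta

variable {U : S.affineOpens} (W : X.affineOpens) (e : W.1 ≤ p ⁻¹ᵁ U.1)
variable {T₁ : Scheme.{u}} [IsAffine T₁] (g : T₁ ⟶ S) (hg : ⊤ ≤ g ⁻¹ᵁ U.1)

/-- the coordinate ring algebras -/
abbrev algW : Algebra Γ(S, U.1) Γ(X, W.1) := (p.appLE U.1 W.1 e).hom.toAlgebra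

abbrev algT : Algebra Γ(S, U.1) Γ(T₁, ⊤) := (g.appLE U.1 ⊤ hg).hom.toAlgebra

/-- `W ×_U T₁` as a spectrum -/
noncomputable abbrev PR : CommRingCat.{u} :=
  letI := algW p W e; letI := algT g hg
  CommRingCat.of (Γ(X, W.1) ⊗[Γ(S, U.1)] Γ(T₁, ⊤))

/-- `W ×_U T₁ ⟶ X ×_S T₁` -/
noncomputable def θ : Spec (PR p W e g hg) ⟶ pullback p g :=
  letI := algW p W e; letI := algT g hg
  (pullbackSpecIso Γ(S, U.1) Γ(X, W.1) Γ(T₁, ⊤)).inv ≫
    pullback.map (Spec.map (CommRingCat.ofHom (algebraMap Γ(S, U.1) Γ(X, W.1))))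
      (Spec.map (CommRingCat.ofHom (algebraMap Γ(S, U.1) Γ(T₁, ⊤)))) p g
      W.2.fromSpec T₁.isoSpec.inv U.2.fromSpec
      (IsAffineOpen.SpecMap_appLE_fromSpec p U.2 W.2 e)
      (by rw [← IsAffineOpen.fromSpec_top]
          exact IsAffineOpen.SpecMap_appLE_fromSpec g U.2 (isAffineOpen_top T₁) hg)

instance : IsOpenImmersion (θ p W e g hg) := by unfold θ; infer_instance

lemma range_θ : Set.range (θ p W e g hg) = pullback.fst p g ⁻¹' (W.1 : Set X) := by
  let := algW p W e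
  let := algT g hg
  rw [θ, Scheme.Hom.comp_base]
  simp only [TopCat.coe_comp]
  rw [Set.range_comp, Set.range_eq_univ.mpr (Scheme.Hom.surjective _), Set.image_univ,
    Scheme.Pullback.range_map, W.2.range_fromSpec, Set.range_eq_univ.mpr (Scheme.Hom.surjective T₁.isoSpec.inv),
    Set.preimage_univ, Set.inter_univ]

lemma θ_fst : θ p W e g hg ≫ pullback.fst p g =
    letI := algW p W e; letI := algT g hg
    Spec.map (CommRingCat.ofHom (Algebra.TensorProduct.includeLeftRingHom)) ≫ W.2.fromSpec := by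
  let := algW p W e
  let := algT g hg
  rw [θ, Category.assoc, pullback.lift_fst, pullbackSpecIso_inv_fst_assoc]

lemma θ_snd : θ p W e g hg ≫ pullback.snd p g =
    letI := algW p W e; letI := algT g hg
    Spec.map (CommRingCat.ofHom (R := Γ(T₁, ⊤))
      (Algebra.TensorProduct.includeRight (R := Γ(S, U.1)) (A := Γ(X, W.1))).toRingHom) ≫
        T₁.isoSpec.inv := by
  let := algW p W e
  let := algT g hg
  rw [θ, Category.assoc, pullback.lift_snd, pullbackSpecIso_inv_snd_assoc]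
  rfl

variable {T₂ : Scheme.{u}} [IsAffine T₂] (g' : T₂ ⟶ S) (hg' : ⊤ ≤ g' ⁻¹ᵁ U.1)
  (h : T₂ ⟶ T₁) (he : h ≫ g = g')

/-- `h` on sections, over the base -/
noncomputable def secMap : letI := algT g hg; letI := algT g' hg'
    Γ(T₁, ⊤) →ₐ[Γ(S, U.1)] Γ(T₂, ⊤) :=
  letI := algT g hg; letI := algT g' hg'
  { h.appTop.hom with
    commutes' := fun a ↦ by
      subst he
      have key : g.appLE U.1 ⊤ hg ≫ h.appLE ⊤ ⊤ (fun _ _ ↦ trivial) = (h ≫ g).appLE U.1 ⊤ hg' :=
        Scheme.Hom.appLE_comp_appLE h g U.1 ⊤ ⊤ hg (fun _ _ ↦ trivial)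
      rw [show h.appLE ⊤ ⊤ (fun _ _ ↦ trivial) = h.appTop from h.appLE_eq_app] at key
      exact congr($key a) }

lemma θ_natural :
    θ p W e g' hg' ≫ pm p h he =
      letI := algW p W e; letI := algT g hg; letI := algT g' hg'
      Spec.map (CommRingCat.ofHom (Algebra.TensorProduct.map (AlgHom.id Γ(S, U.1) Γ(X, W.1))
        (secMap g hg g' hg' h he)).toRingHom) ≫ θ p W e g hg := by
  let := algW p W e
  let := algT g hg
  let := algT g' hg'
  apply pullback.hom_ext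
  · simp only [pm, Category.assoc, pullback.lift_fst, θ_fst]
    rw [← Spec.map_comp_assoc]
    congr 2
    ext a
    simp
  · simp only [pm, Category.assoc, pullback.lift_snd, reassoc_of% (θ_snd p W e g' hg'), θ_snd]
    rw [← Spec.map_comp_assoc, ← Scheme.isoSpec_inv_naturality h, ← Spec.map_comp_assoc]
    congr 2

end theta

/-- the main theorem -/
theorem exists_reps_zeroOn (hp : IsLocProj p) :
    ∃ J : T.IdealSheafData, Reps (fun T' h ↦ ZeroOn p q I (T' := T') h) J := by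
  have hloc := isLocal_zeroOn p q I
  have hV : ∀ t : T, ∃ V : T.affineOpens, t ∈ V.1 ∧ ∃ (U : S.affineOpens) (ι : Type u)
      (W : ι → X.affineOpens) (e : ∀ i, (W i).1 ≤ p ⁻¹ᵁ U.1), V.1 ≤ q ⁻¹ᵁ U.1 ∧
      (∀ x, p x ∈ U.1 → ∃ i, x ∈ (W i).1) ∧ ∀ i, @Module.Projective Γ(S, U.1) _ Γ(X, (W i).1) _
        (p.appLE U.1 (W i).1 (e i)).hom.toAlgebra.toModule := fun t ↦ by
    obtain ⟨U, ι, W, e, hs, hW, hf⟩ := hp (q t)
    obtain ⟨V, hV, htV, hVU⟩ := exists_isAffineOpen_mem_and_subset (U := q ⁻¹ᵁ U.1) (x := t) hs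
    exact ⟨⟨V, hV⟩, htV, U, ι, W, e, hVU, hW, hf⟩
  choose V htV U ι W e hVU hW hf using hV
  refine exists_reps_of_openCover hloc
    (T.openCoverOfIsOpenCover (fun t ↦ (V t).1) (IsOpenCover.mk (top_le_iff.mp fun t _ ↦
      Opens.mem_iSup.mpr ⟨t, htV t⟩))) fun t ↦ ?_
  have : IsAffine (V t).1.toScheme := (V t).2
  change ∃ J : (V t).1.toScheme.IdealSheafData, Reps (fun _ h ↦ ZeroOn p q I (h ≫ (V t).1.ι)) J
  have hg : ⊤ ≤ ((V t).1.ι ≫ q) ⁻¹ᵁ (U t).1 := fun x _ ↦ hVU t x.2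
  refine exists_reps_of_isAffine (P := fun _ h ↦ ZeroOn p q I (h ≫ (V t).1.ι)) ?_
    (⨆ k, (letI := algW p (W t k) (e t k); letI := algT ((V t).1.ι ≫ q) hg
      haveI := hf t k
      coeffIdeal (sIdeal ((I.comap (pm p (V t).1.ι (rfl : (V t).1.ι ≫ q = _))).comap
        (θ p (W t k) (e t k) ((V t).1.ι ≫ q) hg))))) ?_
  · intro T' h 𝒰
    simpa only [Category.assoc] using hloc (h ≫ (V t).1.ι) 𝒰
  intro T' _ h
  have hg' : ⊤ ≤ (h ≫ (V t).1.ι ≫ q) ⁻¹ᵁ (U t).1 := fun x hx ↦ hg (trivial : h x ∈ ⊤)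
  rw [zeroOn_iff p q I (h ≫ (V t).1.ι) (h ≫ (V t).1.ι ≫ q) (Category.assoc _ _ _),
    ← pm_comp p h (V t).1.ι rfl rfl (Category.assoc _ _ _), Scheme.IdealSheafData.comap_comp,
    Ideal.map_iSup, iSup_eq_bot]
  generalize I.comap (pm p (V t).1.ι (rfl : (V t).1.ι ≫ q = _)) = I₁
  have key : ∀ k, (I₁.comap (pm p h (rfl : h ≫ (V t).1.ι ≫ q = _))).comap
      (θ p (W t k) (e t k) _ hg') = ⊥ ↔
      (letI := algW p (W t k) (e t k); letI := algT ((V t).1.ι ≫ q) hg
       haveI := hf t k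
       coeffIdeal (sIdeal (I₁.comap (θ p (W t k) (e t k) _ hg)))).map h.appTop.hom = ⊥ := by
    intro k
    let := algW p (W t k) (e t k)
    let := algT ((V t).1.ι ≫ q) hg
    let := algT (h ≫ (V t).1.ι ≫ q) hg'
    have := hf t k
    rw [← Scheme.IdealSheafData.comap_comp, θ_natural p (W t k) (e t k) _ hg _ hg' h rfl,
      Scheme.IdealSheafData.comap_comp, comap_specMap_eq_bot_iff, Ideal.map_eq_bot_iff_le_ker]
    exact (coeffIdeal_le_ker_iff _ (secMap _ hg _ hg' h rfl)).symm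
  refine ⟨fun h' k ↦ (key k).mp (by rw [h', bot_comap]), fun h' ↦ ?_⟩
  refine eq_bot_of_jointly_surjective _ (fun k ↦ θ p (W t k) (e t k) _ hg') (fun x ↦ ?_)
    fun k ↦ (key k).mpr (h' k)
  obtain ⟨k, hk⟩ := hW t (pullback.fst p (h ≫ (V t).1.ι ≫ q) x) (by
    have h0 : p (pullback.fst p (h ≫ (V t).1.ι ≫ q) x) =
        (h ≫ (V t).1.ι ≫ q) (pullback.snd p (h ≫ (V t).1.ι ≫ q) x) := by
      rw [← Scheme.Hom.comp_apply, ← Scheme.Hom.comp_apply, pullback.condition]
    rw [h0]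
    exact hg' (trivial : (pullback.snd p (h ≫ (V t).1.ι ≫ q) x) ∈ ⊤))
  obtain ⟨y, hy⟩ : x ∈ Set.range (θ p (W t k) (e t k) _ hg') := by
    rw [range_θ]; exact hk
  exact ⟨k, y, hy⟩

end Groth.Agent.ClosedRep.Proj
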